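import Mathlib

/-!
# The case of class two of Hering's theorem: group theory in dimension two (helper609)
-/

set_option autoImplicit false
set_option linter.style.haveILetI false
set_option linter.unusedVariables false

namespace Cfsg.Agent.H609.HerQuat

variable {H : Type*} [Group H]

/-- The conjugation action of a group on a normal subgroup of order four of a quotient, when no nontrivial element
generates a normal subgroup. -/
theorem transitive (W : Type*) [Group W] [Finite W] (φ : H →* MulAut W) (Y : Subgroup W) (hY : Nat.card Y = 4)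
    (hφ : ∀ h : H, ∀ w ∈ Y, φ h w ∈ Y) (hmov : ∀ w ∈ Y, w ≠ 1 → ∃ h, φ h w ≠ w) :
    3 ∣ Nat.card H ∧ ∀ w ∈ Y, ∀ w' ∈ Y, w ≠ 1 → w' ≠ 1 → ∃ h, φ h w = w' := by
  classical
  let X := {w : W // w ∈ Y ∧ w ≠ 1}
  letI act : MulAction H X :=
    { smul := fun z w => ⟨φ z w.1, hφ z _ w.2.1, fun h => w.2.2 ((φ z).map_eq_one_iff.1 h)⟩
      one_smul := fun w => Subtype.ext (by
        show φ 1 w.1 = w.1
        rw [map_one]; rfl)
      mul_smul := fun a b w => Subtype.ext (by
        show φ (a * b) w.1 = φ a (φ b w.1)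
        rw [map_mul]; rfl) }
  have hX : Nat.card X = 3 := by
    have _ := Fintype.ofFinite Y
    have _ := Fintype.ofFinite X
    let e : X ≃ {w : Y // w ≠ 1} :=
      { toFun := fun w => ⟨⟨w.1, w.2.1⟩, fun h => w.2.2 (congrArg Subtype.val h)⟩
        invFun := fun w => ⟨w.1.1, w.1.2, fun h => w.2 (Subtype.ext h)⟩
        left_inv := fun _ => rfl
        right_inv := fun _ => rfl }
    have h2 : Nat.card X = Nat.card Y - 1 := by
      rw [Nat.card_congr e, Nat.card_eq_fintype_card, Fintype.card_subtype_compl,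
        Fintype.card_subtype_eq, Nat.card_eq_fintype_card]
    rw [h2, hY]
  have hsm : ∀ (h : H) (w : X), ((h • w : X) : W) = φ h w.1 := fun _ _ => rfl
  have htwo : ∀ w : X, 2 ≤ (MulAction.orbit H w).ncard := by
    intro w
    obtain ⟨h, hh⟩ := hmov w.1 w.2.1 w.2.2
    have h1 : ({w, h • w} : Set X) ⊆ MulAction.orbit H w := by
      rintro z (rfl | rfl)
      · exact MulAction.mem_orbit_self _
      · exact MulAction.mem_orbit _ _
    have h2 := Set.ncard_le_ncard h1 (Set.toFinite _)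
    rw [Set.ncard_pair] at h2
    · exact h2
    · intro h3
      exact hh ((congrArg Subtype.val h3).symm)
  have htr : ∀ w w' : X, w' ∈ MulAction.orbit H w := by
    intro w w'
    by_contra hcon
    have hdis : Disjoint (MulAction.orbit H w) (MulAction.orbit H w') := by
      rw [Set.disjoint_left]
      intro z hz hz'
      apply hcon
      rw [← MulAction.orbit_eq_iff] at hz hz' ⊢
      rw [← hz', hz]
    have h1 := Set.ncard_union_eq hdis (Set.toFinite _) (Set.toFinite _)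
    have h2 := Set.ncard_le_ncard (Set.subset_univ (MulAction.orbit H w ∪ MulAction.orbit H w')) (Set.toFinite _)
    rw [Set.ncard_univ, hX, h1] at h2
    have h3 := htwo w
    have h4 := htwo w'
    omega
  constructor
  · have hne : Nonempty X := by
      have : Nat.card X ≠ 0 := by rw [hX]; norm_num
      exact (Nat.card_ne_zero.1 this).1
    obtain ⟨w⟩ := hne
    have h1 : MulAction.orbit H w = Set.univ := Set.eq_univ_of_forall fun w' => htr w w'
    have h2 := MulAction.index_stabilizer H w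
    rw [h1, Set.ncard_univ, hX] at h2
    rw [← h2]
    exact Subgroup.index_dvd_card _
  · intro w hw w' hw' h1 h1'
    obtain ⟨h, hh⟩ := htr ⟨w, hw, h1⟩ ⟨w', hw', h1'⟩
    exact ⟨h, congrArg Subtype.val hh⟩

/-- The structure of `B` in dimension two. -/
theorem quat_abs [Finite H] (A B : Subgroup H) [hAn : A.Normal] [hBn : B.Normal] (hAB : A ≤ B) (h4 : A.relIndex B = 4)
    (hsq : ∀ x ∈ B, x ^ 2 ∈ A) (hcen : ∀ a ∈ A, ∀ h, h * a = a * h) (hC : Subgroup.centralizer (B : Set H) ≤ A)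
    (hmax : ∀ A' : Subgroup H, A'.Normal → (∀ a ∈ A', ∀ b ∈ A', a * b = b * a) → A ≤ A' → A' = A) :
    3 ∣ Nat.card H ∧ ∀ b ∈ B, ∃ n ∈ B ⊓ commutator H, ∃ a ∈ A, b = n * a := by
  classical
  have hcard : Nat.card (B.map (QuotientGroup.mk' A)) = 4 := by
    have h1 := Subgroup.relIndex_ker (QuotientGroup.mk' A) (K := B)
    rw [QuotientGroup.ker_mk'] at h1
    rw [← h4]; exact h1.symm
  have hmk : ∀ b ∈ B, ((b : H ⧸ A) = 1 ↔ b ∈ A) := fun b _ => QuotientGroup.eq_one_iff b
  -- the action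
  have hinv : ∀ h : H, ∀ w ∈ B.map (QuotientGroup.mk' A),
      (MulAut.conj.comp (QuotientGroup.mk' A)) h w ∈ B.map (QuotientGroup.mk' A) := by
    rintro y _ ⟨b, hb, rfl⟩
    exact ⟨y * b * y⁻¹, hBn.conj_mem b hb y, rfl⟩
  have hmov : ∀ w ∈ B.map (QuotientGroup.mk' A), w ≠ 1 →
      ∃ h, (MulAut.conj.comp (QuotientGroup.mk' A)) h w ≠ w := by
    rintro _ ⟨b, hb, rfl⟩ hb1
    by_contra hcon
    push Not at hcon
    have hbA : b ∉ A := fun h => hb1 ((QuotientGroup.eq_one_iff b).2 h)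
    have hconj : ∀ h : H, ∃ a ∈ A, h * b * h⁻¹ = b * a := by
      intro h
      have h1 : (h : H ⧸ A) * b * (h : H ⧸ A)⁻¹ = b := hcon h
      have h2 : ((h * b * h⁻¹ : H) : H ⧸ A) = (b : H ⧸ A) := h1
      have h3 : b⁻¹ * (h * b * h⁻¹) ∈ A := QuotientGroup.eq.1 h2.symm
      exact ⟨_, h3, by group⟩
    -- the abelian normal subgroup `A ∪ b A`
    have hbb : b * b ∈ A := by rw [← sq]; exact hsq b hb
    let A' : Subgroup H :=
      { carrier := {h | h ∈ A ∨ ∃ a ∈ A, h = b * a}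
        one_mem' := Or.inl A.one_mem
        mul_mem' := by
          rintro x y (hx | ⟨a, ha, rfl⟩) (hy | ⟨c, hc, rfl⟩)
          · exact Or.inl (A.mul_mem hx hy)
          · refine Or.inr ⟨x * c, A.mul_mem hx hc, ?_⟩
            rw [← mul_assoc, ← mul_assoc, hcen x hx b]
          · refine Or.inr ⟨a * y, A.mul_mem ha hy, ?_⟩
            rw [mul_assoc]
          · refine Or.inl ?_
            have e : b * a * (b * c) = (b * b) * (a * c) := by
              rw [mul_assoc b a, ← mul_assoc a b, ← hcen a ha b]; group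
            rw [e]
            exact A.mul_mem hbb (A.mul_mem ha hc)
        inv_mem' := by
          rintro x (hx | ⟨a, ha, rfl⟩)
          · exact Or.inl (A.inv_mem hx)
          · refine Or.inr ⟨(b * b)⁻¹ * a⁻¹, A.mul_mem (A.inv_mem hbb) (A.inv_mem ha), ?_⟩
            rw [mul_inv_rev, ← hcen a⁻¹ (A.inv_mem ha) b⁻¹]
            group }
    have hA'm : ∀ h, h ∈ A' ↔ h ∈ A ∨ ∃ a ∈ A, h = b * a := fun _ => Iff.rfl
    have hA'n : A'.Normal := by
      constructor
      rintro x (hx | ⟨a, ha, rfl⟩) h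
      · exact Or.inl (hAn.conj_mem x hx h)
      · obtain ⟨c, hc, hcc⟩ := hconj h
        refine Or.inr ⟨c * a, A.mul_mem hc ha, ?_⟩
        have e : h * (b * a) * h⁻¹ = (h * b * h⁻¹) * (h * a * h⁻¹) := by group
        rw [e, hcc, hcen a ha h, mul_inv_cancel_right, mul_assoc]
    have hA'c : ∀ x ∈ A', ∀ y ∈ A', x * y = y * x := by
      rintro x (hx | ⟨a, ha, rfl⟩) y (hy | ⟨c, hc, rfl⟩)
      · exact hcen y hy x
      · exact (hcen x hx _).symm
      · exact hcen y hy _
      · rw [hcen a ha b, hcen c hc b, mul_assoc, mul_assoc, ← mul_assoc b c b, ← mul_assoc b a b, hcen c hc b, hcen a ha b]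
        rw [mul_assoc c b b, mul_assoc a b b, ← mul_assoc, ← mul_assoc, hcen c hc a]
        simp only [mul_assoc]
    have h1 := hmax A' hA'n hA'c (fun a ha => Or.inl ha)
    apply hbA
    rw [← h1]
    exact Or.inr ⟨1, A.one_mem, (mul_one b).symm⟩
  obtain ⟨h3, htr⟩ := transitive (H ⧸ A) (MulAut.conj.comp (QuotientGroup.mk' A)) (B.map (QuotientGroup.mk' A)) hcard
    hinv hmov
  refine ⟨h3, ?_⟩
  -- the commutators
  intro b hb
  by_cases hbA : b ∈ A
  · exact ⟨1, Subgroup.one_mem _, b, hbA, (one_mul b).symm⟩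
  have hb1 : ((b : H) : H ⧸ A) ≠ 1 := fun h => hbA ((QuotientGroup.eq_one_iff b).1 h)
  obtain ⟨h, hh⟩ := hmov b ⟨b, hb, rfl⟩ hb1
  have hh' : (h : H ⧸ A) * b * (h : H ⧸ A)⁻¹ ≠ b := hh
  have hcB : h * b * h⁻¹ * b⁻¹ ∈ B := B.mul_mem (hBn.conj_mem b hb h) (B.inv_mem hb)
  have hc1 : ((h * b * h⁻¹ * b⁻¹ : H) : H ⧸ A) ≠ 1 := by
    intro h1
    apply hh'
    have h2 : (h : H ⧸ A) * b * (h : H ⧸ A)⁻¹ * (b : H ⧸ A)⁻¹ = 1 := h1
    rwa [mul_inv_eq_one] at h2
  have hcc : h * b * h⁻¹ * b⁻¹ ∈ commutator H := Subgroup.commutator_mem_commutator (Subgroup.mem_top h) (Subgroup.mem_top b)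
  obtain ⟨g, hg⟩ := htr _ ⟨_, hcB, rfl⟩ _ ⟨b, hb, rfl⟩ hc1 hb1
  have hg' : ((g * (h * b * h⁻¹ * b⁻¹) * g⁻¹ : H) : H ⧸ A) = (b : H ⧸ A) := hg
  refine ⟨g * (h * b * h⁻¹ * b⁻¹) * g⁻¹, Subgroup.mem_inf.2 ⟨hBn.conj_mem _ hcB g,
    (inferInstance : (commutator H).Normal).conj_mem _ hcc g⟩, _, QuotientGroup.eq.1 hg', by group⟩

end Cfsg.Agent.H609.HerQuat
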