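import Cfsg.Agent.H609.HzNormal
import Cfsg.Agent.CharactersDeep.ExtUnique
import Cfsg.Agent.Blocks.CentralScalar
import Cfsg.Agent.S0089

/-!
# Herzog's theorem on the principal 2-block: groups with a central involution

`exists_mu`: a linear character of 2-power order with value -1 at a central involution (abelian Sylow 2-subgroup);
`twist_mem`: the principal 2-block is closed under multiplication by it.
-/

set_option autoImplicit false

open Cfsg Cfsg.Agent.Blocks Cfsg.Agent.Blocks.Basic Cfsg.Agent.Blocks.Local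
open scoped ComplexConjugate

namespace Cfsg.Agent.H609.Hz

section Central

variable {H : Type*} [Group H] [Finite H]

/-- A linear character, trivial on the elements of odd order and non-trivial at a given central involution. -/
theorem exists_mu (P : Sylow 2 H) (hP : ∀ a ∈ (P : Subgroup H), ∀ b ∈ (P : Subgroup H), a * b = b * a)
    {z : H} (hzc : z ∈ Subgroup.center H) (hz : orderOf z = 2) :
    ∃ μ : H →* ℂˣ, (μ z : ℂ) = -1 ∧ ∀ y : H, ¬ 2 ∣ orderOf y → μ y = 1 := by
  have hz2 : z ^ 2 = 1 := by rw [← hz]; exact pow_orderOf_eq_one z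
  have hz1 : z ≠ 1 := by
    rintro rfl
    rw [orderOf_one] at hz
    omega
  have hnot : z ∉ commutator H := by
    intro hmem
    have hc : IsMulCommutative (P : Subgroup H) :=
      ⟨⟨fun x y => Subtype.ext (hP x x.2 y y.2)⟩⟩
    have h1 := S0089.pow_index_eq_one_of_mem (P : Subgroup H) z hmem hzc
    have h2 := orderOf_dvd_of_pow_eq_one h1
    rw [hz] at h2
    exact P.not_dvd_index h2
  have hne : Abelianization.of z ≠ 1 := by
    intro h
    apply hnot
    rw [← Abelianization.ker_of H]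
    exact h
  have : Finite (Abelianization H) := inferInstanceAs (Finite (H ⧸ commutator H))
  obtain ⟨lam, hlam⟩ := CommGroup.exists_apply_ne_one_of_hasEnoughRootsOfUnity (Abelianization H) ℂ hne
  set nu : H →* ℂˣ := lam.comp Abelianization.of with hnu
  have hnuz : ((nu z : ℂˣ) : ℂ) = -1 := by
    have h1 : ((nu z : ℂˣ) : ℂ) ^ 2 = 1 := by
      rw [← Units.val_pow_eq_pow_val, ← map_pow, hz2, map_one, Units.val_one]
    rw [pow_two] at h1
    rcases mul_self_eq_one_iff.1 h1 with h2 | h2
    · exfalso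
      apply hlam
      exact Units.ext h2
    · exact h2
  obtain ⟨a, m, hm, ham⟩ := Nat.exists_eq_two_pow_mul_odd (n := Nat.card H) Nat.card_pos.ne'
  refine ⟨nu ^ m, ?_, ?_⟩
  · rw [MonoidHom.pow_apply, Units.val_pow_eq_pow_val, hnuz, hm.neg_one_pow]
  · intro y hy
    rw [MonoidHom.pow_apply, ← map_pow]
    have h1 : orderOf y ∣ m := by
      have h2 : orderOf y ∣ 2 ^ a * m := ham ▸ orderOf_dvd_natCard y
      refine Nat.Coprime.dvd_of_dvd_mul_left ?_ h2
      exact (Nat.Coprime.pow_left a ((Nat.Prime.coprime_iff_not_dvd Nat.prime_two).2 hy)).symm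
    rw [orderOf_dvd_iff_pow_eq_one.1 h1, map_one]

variable {M : Ideal AlgInt}

/-- The product with a linear character. -/
noncomputable def tw (μ : H →* ℂˣ) (ξ : IrrCharacter H) : IrrCharacter H :=
  ⟨fun g => (ξ : H → ℂ) g * μ g, CharactersDeep.ExtUnique.isIrr_mul_hom ξ.2 μ⟩

omit [Finite H] in
theorem tw_apply (μ : H →* ℂˣ) (ξ : IrrCharacter H) (g : H) :
    (tw μ ξ : H → ℂ) g = (ξ : H → ℂ) g * μ g := rfl

omit [Finite H] in
theorem tw_inv_tw (μ : H →* ℂˣ) (ξ : IrrCharacter H) : tw μ⁻¹ (tw μ ξ) = ξ := by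
  apply Subtype.ext
  funext g
  change (ξ : H → ℂ) g * μ g * (μ⁻¹ g : ℂˣ) = _
  rw [mul_assoc, ← Units.val_mul, MonoidHom.inv_apply, mul_inv_cancel, Units.val_one, mul_one]

omit [Finite H] in
theorem tw_tw_inv (μ : H →* ℂˣ) (ξ : IrrCharacter H) : tw μ (tw μ⁻¹ ξ) = ξ := by
  apply Subtype.ext
  funext g
  change (ξ : H → ℂ) g * (μ⁻¹ g : ℂˣ) * μ g = _
  rw [mul_assoc, ← Units.val_mul, MonoidHom.inv_apply, inv_mul_cancel, Units.val_one, mul_one]

theorem twist_mem (hM : IsPModular 2 M) {μ : H →* ℂˣ} (hμ : ∀ y : H, ¬ 2 ∣ orderOf y → μ y = 1)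
    {ξ : IrrCharacter H} (hξ : ξ ∈ principalBlock M H) : tw μ ξ ∈ principalBlock M H := by
  have hMp := isPrime_of_isPModular hM
  intro g
  have h0 : centralChar (tw μ ξ : H → ℂ) g = centralChar (ξ : H → ℂ) g * μ g := by
    rw [centralChar_def, centralChar_def, tw_apply, tw_apply, map_one, Units.val_one, mul_one]
    ring
  have h1 := hξ g
  have h2 : MemLocalIdeal M (centralChar (ξ : H → ℂ) g * (1 - (μ g : ℂ))) := by
    refine memLocalIdeal_mul_left (memLocalRing_of_isIntegral
      (CentralScalar.isIntegral_centralChar ξ.2 g)) ?_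
    obtain ⟨x, y, hxy, hcomm, hx, hy⟩ := PPart.exists_isPPart 2 g
    have h3 : (μ g : ℂ) = μ x := by
      rw [← hxy, map_mul, hμ y hy, mul_one]
    rw [h3]
    have h4 := sub_mem_of_pElement hM (⟨fun g => (μ g : ℂ), Characters.Linear.isIrrCharacter_hom μ⟩ :
      IrrCharacter H) hx
    have h5 := memLocalIdeal_sub_comm h4
    simpa using h5
  have h6 := memLocalIdeal_add h1 h2
  rw [h0]
  convert h6 using 1
  ring

end Central

end Cfsg.Agent.H609.Hz
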