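import Cfsg.Agent.H609.HzData
import Cfsg.Agent.ClassicalGeometry.SLTwoFour

/-!
# Herzog's theorem on the principal 2-block: involution centralizers in the Janko-Ree case

`quot_isConj`: if `K` is normal of odd index in `G` and `C_K(t) ≅ Z₂ × PSL(2, q)`, `q ≡ 3, 5 mod 8`, then
`C_G(t) / ⟨t⟩` has one class of involutions.
-/

set_option autoImplicit false

open Cfsg

namespace Cfsg.Agent.H609.Hz

open Matrix

/-- `PSL(2, q)`, `q ≡ 3, 5 mod 8`, has no central involution. -/
theorem eq_one_of_central {F : Type*} [Field F] [Fintype F]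
    (h8 : Fintype.card F % 8 = 3 ∨ Fintype.card F % 8 = 5) {p : ProjectiveSpecialLinearGroup (Fin 2) F}
    (hp2 : p * p = 1) (hpc : ∀ g, g * p = p * g) : p = 1 := by
  classical
  have hfin : Finite (ProjectiveSpecialLinearGroup (Fin 2) F) := inferInstance
  by_contra hp1
  have hodd : Odd (Fintype.card F) := by rw [Nat.odd_iff]; omega
  obtain ⟨Q⟩ : Nonempty (Sylow 2 (ProjectiveSpecialLinearGroup (Fin 2) F)) := inferInstance
  obtain ⟨hQ1, hQ2, -⟩ := Walter.PSLFacts.odd_facts h8 (MulEquiv.refl _) Q
  have hord : ∀ x : ProjectiveSpecialLinearGroup (Fin 2) F, x * x = 1 → x ≠ 1 → orderOf x = 2 :=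
    fun x h1 h2 => orderOf_eq_prime (by rw [pow_two]; exact h1) h2
  have h1 : ∀ x ∈ (Q : Subgroup (ProjectiveSpecialLinearGroup (Fin 2) F)), x = 1 ∨ x = p := by
    intro x hx
    by_cases hx1 : x = 1
    · exact Or.inl hx1
    · right
      obtain ⟨c, hc⟩ := isConj_iff.1 (ClassicalGeometry.SLTwoFour.psl_isConj hodd p x (hord p hp2 hp1)
        (hord x (hQ1 x hx) hx1))
      rw [← hc, hpc c, mul_inv_cancel_right]
  have h2 : Nat.card (Q : Subgroup (ProjectiveSpecialLinearGroup (Fin 2) F)) ≤ 2 := by
    have h3 : ((Q : Subgroup (ProjectiveSpecialLinearGroup (Fin 2) F)) : Set _) ⊆ {1, p} := by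
      intro x hx
      exact h1 x hx
    have h4 := Set.ncard_le_ncard h3 (Set.toFinite _)
    have h5 : Set.ncard ({1, p} : Set (ProjectiveSpecialLinearGroup (Fin 2) F)) ≤ 2 :=
      Set.ncard_insert_le _ _ |>.trans (by rw [Set.ncard_singleton])
    exact h4.trans h5
  omega

/-- **One class of involutions in `C(t) / ⟨t⟩`.** -/
theorem quot_isConj {G : Type*} [Group G] [Finite G] {K : Subgroup G} (hK : K.Normal)
    (hodd : ¬ 2 ∣ K.index) {F : Type*} [Field F] [Fintype F]
    (h8 : Fintype.card F % 8 = 3 ∨ Fintype.card F % 8 = 5) {t : K} (ht : orderOf t = 2)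
    (e : Subgroup.centralizer ({t} : Set K) ≃*
      Multiplicative (ZMod 2) × ProjectiveSpecialLinearGroup (Fin 2) F)
    {H : Subgroup G} (hH : H = Subgroup.centralizer ({(t : G)} : Set G)) (z : H) (hz : (z : G) = t)
    [hn : (Subgroup.zpowers z).Normal] :
    ∀ a b : H ⧸ Subgroup.zpowers z, orderOf a = 2 → orderOf b = 2 → IsConj a b := by
  have hFodd : Odd (Fintype.card F) := by rw [Nat.odd_iff]; omega
  have htt : t * t = 1 := by rw [← pow_two, ← ht]; exact pow_orderOf_eq_one t
  have ht1 : t ≠ 1 := by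
    rintro rfl
    rw [orderOf_one] at ht
    omega
  have hzo : orderOf z = 2 := by rw [← Subgroup.orderOf_coe, hz, Subgroup.orderOf_coe, ht]
  set π := QuotientGroup.mk' (Subgroup.zpowers z) with hπ
  have hsurj : Function.Surjective π := QuotientGroup.mk'_surjective _
  have hπz : π z = 1 := (QuotientGroup.eq_one_iff z).2 (Subgroup.mem_zpowers z)
  have hker : ∀ h : H, π h = 1 → h = 1 ∨ h = z := fun h hh =>
    card_zpowers_two hzo ((QuotientGroup.eq_one_iff h).1 hh)
  -- the embedding of `C_K(t)`
  let ι : Subgroup.centralizer ({t} : Set K) →* H :=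
    (K.subtype.comp (Subgroup.centralizer ({t} : Set K)).subtype).codRestrict H (by
      intro x
      rw [hH, Subgroup.mem_centralizer_singleton_iff]
      have := Subgroup.mem_centralizer_singleton_iff.1 x.2
      exact congrArg Subtype.val this)
  have hιinj : Function.Injective ι := by
    intro x y hxy
    have h1 : (((x : K) : G)) = ((y : K) : G) := congrArg (fun h : H => (h : G)) hxy
    exact Subtype.ext (Subtype.ext h1)
  set t' : Subgroup.centralizer ({t} : Set K) := ⟨t, Subgroup.mem_centralizer_singleton_iff.2 rfl⟩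
    with ht'
  have hιt : ι t' = z := Subtype.ext hz.symm
  have ht'1 : t' ≠ 1 := fun h => ht1 (congrArg Subtype.val h)
  set φ : Subgroup.centralizer ({t} : Set K) →* ProjectiveSpecialLinearGroup (Fin 2) F :=
    (MonoidHom.snd _ _).comp e.toMonoidHom with hφ
  have hφt : φ t' = 1 := by
    refine eq_one_of_central h8 ?_ ?_
    · rw [← map_mul]
      have : t' * t' = 1 := Subtype.ext htt
      rw [this, map_one]
    · intro g
      have h1 : φ (e.symm (1, g)) = g := by
        change (e (e.symm (1, g))).2 = g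
        rw [e.apply_symm_apply]
      rw [← h1, ← map_mul, ← map_mul]
      congr 1
      have h2 := Subgroup.mem_centralizer_singleton_iff.1 (e.symm (1, g)).2
      exact Subtype.ext h2
  have hz2 : ∀ a b : Multiplicative (ZMod 2), a ≠ 1 → b ≠ 1 → a = b := by decide
  have hφker : ∀ x, φ x = 1 → x = 1 ∨ x = t' := by
    intro x hx
    have h2 : (e x).2 = 1 := hx
    have h3 : (e t').2 = 1 := hφt
    have h4 : (e t').1 ≠ 1 := by
      intro h
      apply ht'1
      apply e.injective
      rw [map_one]
      exact Prod.ext h h3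
    by_cases h5 : (e x).1 = 1
    · left
      apply e.injective
      rw [map_one]
      exact Prod.ext h5 h2
    · right
      apply e.injective
      exact Prod.ext (hz2 _ _ h5 h4) (h2.trans h3.symm)
  -- involutions of the quotient come from `C_K(t)`
  have hlift : ∀ a : H ⧸ Subgroup.zpowers z, orderOf a = 2 →
      ∃ x, π (ι x) = a ∧ orderOf (φ x) = 2 := by
    intro a ha
    obtain ⟨h, rfl⟩ := hsurj a
    have ha2 : π (h * h) = 1 := by
      rw [map_mul, ← pow_two, ← ha]; exact pow_orderOf_eq_one _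
    have ha1 : π h ≠ 1 := by
      intro h1
      rw [h1, orderOf_one] at ha
      omega
    have h4 : (h * h) * (h * h) = 1 := by
      rcases hker _ ha2 with h1 | h1
      · rw [h1, mul_one]
      · rw [h1, ← pow_two, ← hzo]; exact pow_orderOf_eq_one z
    have hhK : (h : G) ∈ K := by
      rw [← QuotientGroup.eq_one_iff, ← orderOf_eq_one_iff]
      have h5 : orderOf ((h : G) : G ⧸ K) ∣ 2 ^ 2 := by
        apply orderOf_dvd_of_pow_eq_one
        have h6 : (h : G) ^ 2 ^ 2 = 1 := by
          have h7 : (h : G) * h * (h * h) = 1 := congrArg Subtype.val h4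
          rw [← h7]
          simp [pow_succ, mul_assoc]
        rw [← QuotientGroup.mk_pow, h6, QuotientGroup.mk_one]
      have h6 : orderOf ((h : G) : G ⧸ K) ∣ K.index := orderOf_dvd_natCard _
      have h7 : (2 ^ 2).Coprime K.index :=
        Nat.Coprime.pow_left 2 ((Nat.Prime.coprime_iff_not_dvd Nat.prime_two).2 hodd)
      exact Nat.eq_one_of_dvd_coprimes h7 h5 h6
    have hhC : (⟨h, hhK⟩ : K) ∈ Subgroup.centralizer ({t} : Set K) := by
      rw [Subgroup.mem_centralizer_singleton_iff]
      apply Subtype.ext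
      have h0 : (h : G) ∈ Subgroup.centralizer ({(t : G)} : Set G) := by rw [← hH]; exact h.2
      exact Subgroup.mem_centralizer_singleton_iff.1 h0
    set x : Subgroup.centralizer ({t} : Set K) := ⟨⟨h, hhK⟩, hhC⟩ with hx
    have hιx : ι x = h := Subtype.ext rfl
    refine ⟨x, by rw [hιx], ?_⟩
    apply orderOf_eq_prime
    · have h5 : ι (x * x) = 1 ∨ ι (x * x) = z := by
        rw [map_mul, hιx]; exact hker _ ha2
      rw [pow_two, ← map_mul]
      rcases h5 with h5 | h5
      · have : x * x = 1 := hιinj (by rw [h5, map_one])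
        rw [this, map_one]
      · have : x * x = t' := hιinj (by rw [h5, hιt])
        rw [this, hφt]
    · intro h5
      apply ha1
      rcases hφker x h5 with h6 | h6
      · rw [← hιx, h6, map_one, map_one]
      · rw [← hιx, h6, hιt, hπz]
  intro a b ha hb
  obtain ⟨x, rfl, hx⟩ := hlift a ha
  obtain ⟨y, rfl, hy⟩ := hlift b hb
  obtain ⟨g, hg⟩ := isConj_iff.1 (ClassicalGeometry.SLTwoFour.psl_isConj hFodd _ _ hx hy)
  set c := e.symm (1, g) with hc
  have hφc : φ c = g := by
    change (e (e.symm (1, g))).2 = g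
    rw [e.apply_symm_apply]
  rw [isConj_iff]
  refine ⟨π (ι c), ?_⟩
  have h1 : φ (c * x * c⁻¹ * y⁻¹) = 1 := by
    rw [map_mul, map_mul, map_mul, map_inv, map_inv, hφc, hg, mul_inv_cancel]
  have h2 : π (ι (c * x * c⁻¹ * y⁻¹)) = 1 := by
    rcases hφker _ h1 with h3 | h3
    · rw [h3, map_one, map_one]
    · rw [h3, hιt, hπz]
  rw [map_mul, map_mul, map_mul, map_mul, map_mul, map_mul] at h2
  simp only [map_inv] at h2
  exact mul_inv_eq_one.1 h2

end Cfsg.Agent.H609.Hz
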