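import Cfsg.Agent.H609.HzEightMain
import Cfsg.Agent.H609.HzJR
import Cfsg.Agent.Walter.StepAll

/-!
# Herzog's theorem on the principal 2-block: core-free groups
-/

set_option autoImplicit false

open Cfsg Cfsg.Agent.Blocks Cfsg.Agent.Blocks.Basic Cfsg.Agent.Blocks.Local

namespace Cfsg.Agent.H609.Hz

universe u

theorem orderOf_of_isConj {G : Type*} [Group G] {a b : G} (h : IsConj a b) : orderOf a = orderOf b := by
  obtain ⟨c, hc⟩ := isConj_iff.1 h
  rw [← hc]
  have := orderOf_injective (MulAut.conj c).toMonoidHom (MulAut.conj c).injective a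
  simpa using this.symm

/-- **Core-free groups.** -/
theorem core {G : Type u} [Group G] [Finite G] {M : Ideal AlgInt} (hM : IsPModular 2 M) {g : G} {k : ℂ}
    (h : HypK M g k) (hO : pPrimeCore 2 G = ⊥) (hg1 : g ≠ 1) :
    Nat.card G = 2 ∨ (Walter.Types.IsEvenType G ∧ g ^ 2 = 1) := by
  have hk : k ≠ 0 := by
    rintro rfl
    have h1 := eq_zero_imp hM h
    rw [hO, Subgroup.mem_bot] at h1
    exact hg1 h1
  obtain ⟨s, v, hsv, hcomm, hs2, hv⟩ := PPart.exists_isPPart 2 g
  have hpart : IsPPart 2 g s := ⟨v, hsv, hcomm, hs2, hv⟩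
  have hcj : ∀ y : G, y ≠ 1 → (∃ j : ℕ, orderOf y = 2 ^ j) → IsConj s y := fun y hy1 hy =>
    isConj_of_hyp hM h hk hpart hy1 hy
  -- the order is even
  have heven : 2 ∣ Nat.card G := by
    by_contra hcon
    apply hg1
    have h1 : pPrimeCore 2 G = ⊤ := (Lib.Cores.pPrimeCore_eq_top_iff 2).2
      ((Nat.Prime.coprime_iff_not_dvd Nat.prime_two).2 hcon).symm
    have h2 : g ∈ pPrimeCore 2 G := h1 ▸ Subgroup.mem_top g
    rw [hO] at h2
    exact Subgroup.mem_bot.1 h2
  obtain ⟨t, ht⟩ := exists_prime_orderOf_dvd_card' 2 heven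
  have ht1 : t ≠ 1 := by
    rintro rfl
    rw [orderOf_one] at ht
    omega
  have hs : orderOf s = 2 := by
    rw [orderOf_of_isConj (hcj t ht1 ⟨1, by rw [ht, pow_one]⟩), ht]
  have hs1 : s ≠ 1 := by
    rintro rfl
    rw [orderOf_one] at hs
    omega
  have hconj : ∀ a b : G, a ≠ 1 → a * a = 1 → b ≠ 1 → b * b = 1 → IsConj a b := by
    intro a b ha1 ha2 hb1 hb2
    have ha := orderOf_eq_prime (by rw [pow_two]; exact ha2) ha1
    have hb := orderOf_eq_prime (by rw [pow_two]; exact hb2) hb1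
    exact (hcj a ha1 ⟨1, by rw [ha, pow_one]⟩).symm.trans (hcj b hb1 ⟨1, by rw [hb, pow_one]⟩)
  have hone : ∀ a b : G, orderOf a = 2 → orderOf b = 2 → IsConj a b := by
    intro a b ha hb
    refine hconj a b ?_ ?_ ?_ ?_
    · rintro rfl; rw [orderOf_one] at ha; omega
    · rw [← pow_two, ← ha]; exact pow_orderOf_eq_one a
    · rintro rfl; rw [orderOf_one] at hb; omega
    · rw [← pow_two, ← hb]; exact pow_orderOf_eq_one b
  have hg2 : 2 ∣ orderOf g := by
    have h1 : Commute g v⁻¹ := by
      rw [← hsv]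
      exact ((hcomm.mul_left (Commute.refl v))).inv_right
    have h2 := h1.orderOf_mul_dvd_mul_orderOf
    rw [← hsv, mul_inv_cancel_right, hs, orderOf_inv, hsv] at h2
    exact ((Nat.Prime.dvd_mul Nat.prime_two).1 h2).resolve_right hv
  -- a Sylow subgroup containing `s`
  have hsp : IsPGroup 2 (Subgroup.zpowers s) := by
    refine IsPGroup.of_card (n := 1) ?_
    rw [Nat.card_zpowers, hs, pow_one]
  obtain ⟨P, hPs⟩ := hsp.exists_le_sylow
  have hsP : s ∈ (P : Subgroup G) := hPs (Subgroup.mem_zpowers s)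
  have hPe : ∀ a ∈ (P : Subgroup G), a * a = 1 := by
    intro a ha
    by_cases ha1 : a = 1
    · rw [ha1, mul_one]
    · obtain ⟨j, hj⟩ := IsPGroup.iff_orderOf.1 P.2 ⟨a, ha⟩
      rw [Subgroup.orderOf_mk] at hj
      have h1 := orderOf_of_isConj (hcj a ha1 ⟨j, hj⟩)
      rw [hs] at h1
      rw [← pow_two, h1]
      exact pow_orderOf_eq_one a
  have hP1 : (P : Subgroup G) ≠ ⊥ := by
    intro h1
    rw [h1] at hsP
    exact hs1 (Subgroup.mem_bot.1 hsP)
  rcases normal_or_simple hO P hPe hP1 hconj with hn | ⟨K, hK, hPK, hKs, hKna, hKC⟩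
  · exact Or.inl (card_eq_two hM h hk hO P hn hPe hP1 hconj)
  · right
    have hcommP := Walter.AutFacts.comm_of_sq P hPe
    set S : Sylow 2 K := P.subtype hPK with hS
    have hScomm : ∀ a ∈ (S : Subgroup K), ∀ b ∈ (S : Subgroup K), a * b = b * a := by
      intro a ha b hb
      exact Subtype.ext (hcommP a (Subgroup.mem_subgroupOf.1 ha) b (Subgroup.mem_subgroupOf.1 hb))
    have hScard : Nat.card (S : Subgroup K) = Nat.card (P : Subgroup G) :=
      Nat.card_congr (Subgroup.subgroupOfEquivOfLe hPK).toEquiv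
    have hKodd : ¬ 2 ∣ K.index := fun h2 => P.not_dvd_index (h2.trans (Subgroup.index_dvd_of_le hPK))
    rcases Walter.Main.wType_of_step Walter.StepAll.step K hKs hKna S hScomm with hE | hOd | hJ
    · exact of_even_type hM h hk hg2 hK hKs hKC P hPK hE
    · obtain ⟨F, i1, i2, h8, h5, ⟨e⟩⟩ := hOd
      have hodd : Odd (Fintype.card F) := by rw [Nat.odd_iff]; omega
      have hS4 := (Walter.PSLFacts.odd_facts h8 e S).2.1
      have hPK4 := isKleinFour_of P (hScard ▸ hS4) hPe
      obtain ⟨χ, hχ, hχ1, hχ3⟩ := exists_degree_three hM h hg2 P hPK4 hone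
      obtain ⟨x, hx, hx1⟩ := exists_apply_ne hM h hk P hχ hχ1
      have h7 := card_le_seven hodd h5
        ((K.subtype.comp e.symm.toMonoidHom).comp
          (QuotientGroup.mk' (Subgroup.center (Matrix.SpecialLinearGroup (Fin 2) F))))
        (irr_isCharacter χ.2) hχ3 (by
          obtain ⟨y, hy⟩ := QuotientGroup.mk'_surjective
            (Subgroup.center (Matrix.SpecialLinearGroup (Fin 2) F)) (e ⟨x, hPK hx⟩)
          refine ⟨y, ?_⟩
          rw [MonoidHom.comp_apply, hy]
          change (χ : G → ℂ) ((e.symm (e ⟨x, hPK hx⟩) : K) : G) ≠ _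
          rw [e.symm_apply_apply]
          exact hx1)
      have hF5 : Fintype.card F = 5 := by omega
      exact of_even_type hM h hk hg2 hK hKs hKC P hPK (isEvenType_of_five hF5 e)
    · exfalso
      have hP8 : Nat.card (P : Subgroup G) = 8 := by
        rw [← hScard]; exact (Walter.TypeSylow.card_sylow_JR hJ S).1
      obtain ⟨-, F, i1, i2, h8, -, hC⟩ := hJ
      set t' : K := ⟨s, hPK hsP⟩ with ht'
      have ht'2 : orderOf t' = 2 := by rw [ht', Subgroup.orderOf_mk, hs]
      obtain ⟨e⟩ := hC t' ht'2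
      set H : Subgroup G := Subgroup.centralizer ({s} : Set G) with hH
      set z : H := ⟨s, Subgroup.mem_centralizer_singleton_iff.2 rfl⟩ with hz
      have hn : (Subgroup.zpowers z).Normal := by
        constructor
        intro n hn g'
        have hc : g' * n = n * g' := by
          obtain ⟨j, rfl⟩ := Subgroup.mem_zpowers_iff.1 hn
          have h1 : Commute g' z := Subtype.ext (Subgroup.mem_centralizer_singleton_iff.1 g'.2)
          exact (h1.zpow_right j).eq
        rw [hc, mul_inv_cancel_right]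
        exact hn
      exact false_of_eight hM h hk P hP8 hPe hone hsP hs hcomm hv hsv.symm hH z rfl
        (quot_isConj hK hKodd h8 ht'2 e hH z rfl)

end Cfsg.Agent.H609.Hz
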