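import Cfsg.Agent.H609.HzNormal
import Cfsg.Agent.S4512
import Cfsg.Agent.S2299
import Cfsg.Agent.Walter.TypeSylow

/-!
# Herzog's theorem on the principal 2-block: Klein four Sylow 2-subgroup

* `exists_degree_three`: under the hypothesis of the theorem the principal 2-block contains a character of degree 3;
* `card_eq_five`: a normal subgroup `PSL(2, q)`, `q ≡ 3, 5 mod 8`, is `PSL(2, 5)`;
* `even_of_odd_type`: it is `PSL(2, 4)`.
-/

set_option autoImplicit false

open Cfsg Cfsg.Agent.Blocks Cfsg.Agent.Blocks.Basic Cfsg.Agent.Blocks.Local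
open scoped ComplexConjugate

namespace Cfsg.Agent.H609.Hz

variable {G : Type*} [Group G] [Finite G] {M : Ideal AlgInt}

/-- With a Klein four Sylow 2-subgroup and one class of involutions the members of the principal 2-block are constant
on the elements of even order. -/
theorem apply_sing (hM : IsPModular 2 M) (P : Sylow 2 G) (hP : IsKleinFour (P : Subgroup G))
    (hone : ∀ s t : G, orderOf s = 2 → orderOf t = 2 → IsConj s t) {z : G} (hzP : z ∈ (P : Subgroup G))
    (hz2 : orderOf z = 2) {g : G} (hg : 2 ∣ orderOf g) {χ : IrrCharacter G}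
    (hχ : χ ∈ principalBlock M G) : (χ : G → ℂ) g = (χ : G → ℂ) z := by
  obtain ⟨x, y, hxy, hcomm, ⟨k, hk⟩, hy⟩ := PPart.exists_isPPart 2 g
  have hx1 : x ≠ 1 := by
    rintro rfl
    rw [one_mul] at hxy
    exact hy (hxy ▸ hg)
  have hxp : IsPGroup 2 (Subgroup.zpowers x) := by
    refine IsPGroup.of_card (n := k) ?_
    rw [Nat.card_zpowers, hk]
  obtain ⟨Q, hQ⟩ := hxp.exists_le_sylow
  obtain ⟨a, ha⟩ := MulAction.exists_smul_eq G Q P
  have hxP : a * x * a⁻¹ ∈ (P : Subgroup G) := by
    rw [← ha]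
    exact Subgroup.smul_mem_pointwise_smul x (MulAut.conj a) _ (hQ (Subgroup.mem_zpowers x))
  have hord : orderOf x = 2 := by
    have h1 : a * x * a⁻¹ ≠ 1 := by
      intro h
      apply hx1
      have : x = a⁻¹ * (a * x * a⁻¹) * a := by group
      rw [this, h]; group
    have h2 := KleinSylow.orderOf_eq_two' hP hxP h1
    have h3 : orderOf (a * x * a⁻¹) = orderOf x := by
      have := orderOf_injective (MulAut.conj a).toMonoidHom (MulAut.conj a).injective x
      simpa using this
    rw [← h3, h2]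
  obtain ⟨w, hw⟩ := isConj_iff.1 (hone x z hord hz2)
  have h1 : (χ : G → ℂ) g = (χ : G → ℂ) (z * (w * y * w⁻¹)) := by
    rw [← irr_conj χ.2 g w, ← hxy, ← hw]
    group
  rw [h1]
  refine S4512.const_section hM P hP hzP hz2 ?_ ?_ hχ
  · rw [← hw]
    exact (hcomm.map (MulAut.conj w).toMonoidHom)
  · have h3 : orderOf (w * y * w⁻¹) = orderOf y := by
      have := orderOf_injective (MulAut.conj w).toMonoidHom (MulAut.conj w).injective y
      simpa using this
    rw [h3]; exact hy

/-- **Klein four Sylow 2-subgroup.** -/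
theorem exists_degree_three (hM : IsPModular 2 M) {u : G} {k : ℂ} (h : HypK M u k)
    (hu : 2 ∣ orderOf u) (P : Sylow 2 G) (hP : IsKleinFour (P : Subgroup G))
    (hone : ∀ s t : G, orderOf s = 2 → orderOf t = 2 → IsConj s t) :
    ∃ χ : IrrCharacter G, χ ∈ principalBlock M G ∧ χ ≠ triv G ∧ (χ : G → ℂ) 1 = 3 := by
  obtain ⟨ζ₂, ζ₃, ζ₄, ε, hε, hne2, hne3, h23, h24, h34, hB, hinv, -, -, -, hrel⟩ :=
    S0948.result M hM P hP hone
  obtain ⟨z, hzP, hz2⟩ := KleinSylow.exists_ne_one hP
  obtain ⟨e2, e3, e4⟩ := hinv z hz2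
  have m2 : ζ₂ ∈ principalBlock M G := by rw [hB]; exact Or.inr (Or.inl rfl)
  have m3 : ζ₃ ∈ principalBlock M G := by rw [hB]; exact Or.inr (Or.inr (Or.inl rfl))
  have m4 : ζ₄ ∈ principalBlock M G := by rw [hB]; exact Or.inr (Or.inr (Or.inr rfl))
  have n4 : ζ₄ ≠ triv G := by
    intro h0
    rw [h0, triv_apply] at e4
    norm_num at e4
  have k2 := h ζ₂ m2 (ne_triv_iff.2 hne2)
  have k3 := h ζ₃ m3 (ne_triv_iff.2 hne3)
  have k4 := h ζ₄ m4 n4
  rw [apply_sing hM P hP hone hzP hz2 hu m2, e2] at k2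
  rw [apply_sing hM P hP hone hzP hz2 hu m3, e3] at k3
  rw [apply_sing hM P hP hone hzP hz2 hu m4, e4] at k4
  have h0 := hrel 1 (by rw [orderOf_one]; exact odd_one)
  refine ⟨ζ₄, m4, n4, ?_⟩
  rcases hε with rfl | rfl
  · exfalso
    push_cast at h0 k3
    have h1 : k = -4 := by linear_combination h0 - k2 - k3 + k4
    have h2 : (ζ₂ : G → ℂ) 1 = -3 := by linear_combination k2 + h1
    rw [irr_one_eq_charDegree ζ₂.2] at h2
    have h3 : ((charDegree (ζ₂ : G → ℂ) + 3 : ℕ) : ℂ) = 0 := by
      push_cast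
      rw [h2]; norm_num
    have h4 : charDegree (ζ₂ : G → ℂ) + 3 = 0 := by exact_mod_cast h3
    omega
  · push_cast at h0 k3
    linear_combination -h0 + k2 - k3

theorem isKleinFour_of (P : Sylow 2 G) (hP : Nat.card (P : Subgroup G) = 4)
    (hexp : ∀ x ∈ (P : Subgroup G), x * x = 1) : IsKleinFour (P : Subgroup G) := by
  refine ⟨hP, ?_⟩
  have hne : Nontrivial (P : Subgroup G) := by
    rw [← Finite.one_lt_card_iff_nontrivial]
    rw [hP]; norm_num
  have h1 : Monoid.exponent (P : Subgroup G) ∣ 2 := by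
    refine Monoid.exponent_dvd_of_forall_pow_eq_one fun x => ?_
    rw [pow_two]; exact Subtype.ext (hexp x x.2)
  rcases (Nat.dvd_prime Nat.prime_two).1 h1 with h2 | h2
  · exfalso
    have h3 := (Monoid.exp_eq_one_iff (G := (P : Subgroup G))).1 h2
    exact not_subsingleton _ h3
  · exact h2

omit [Finite G] in
/-- A group homomorphism from `SL(2, q)` to a group with a character of degree 3 that is not constant on the image
forces `q ≤ 7`. -/
theorem card_le_seven {F : Type*} [Field F] [Fintype F] (hodd : Odd (Fintype.card F))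
    (h5 : 5 ≤ Fintype.card F) (f : Matrix.SpecialLinearGroup (Fin 2) F →* G)
    {χ : G → ℂ} (hχ : IsCharacter G χ) (hχ3 : χ 1 = 3)
    (hne : ∃ g, χ (f g) ≠ χ 1) : Fintype.card F ≤ 7 := by
  classical
  have hfin : Finite (Matrix.SpecialLinearGroup (Fin 2) F) := inferInstance
  have : Finite (IrrCharacter (Matrix.SpecialLinearGroup (Fin 2) F)) := Characters.Core.finite_irr
  have := Fintype.ofFinite (IrrCharacter (Matrix.SpecialLinearGroup (Fin 2) F))
  have hθ := Characters.Core.isCharacter_comp f hχ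
  obtain ⟨m, hm⟩ := Characters.Core.exists_nat_comb hθ
  obtain ⟨g, hg⟩ := hne
  obtain ⟨hdeg, hcount⟩ := S2299.result hodd
  -- a constituent which is not principal
  obtain ⟨ψ, hψm, hψ1⟩ : ∃ ψ : IrrCharacter (Matrix.SpecialLinearGroup (Fin 2) F), m ψ ≠ 0 ∧
      ψ ≠ triv _ := by
    by_contra hcon
    push Not at hcon
    apply hg
    have hval : ∀ x, χ (f x) = m (triv _) := by
      intro x
      have h1 := congrFun hm x
      rw [Function.comp_apply, Finset.sum_apply, Finset.sum_eq_single (triv _)] at h1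
      · rw [h1, Pi.smul_apply, triv_apply]
        simp
      · intro ψ _ hψ
        have : m ψ = 0 := by
          by_contra h2
          exact hψ (hcon ψ h2)
        rw [this]; simp
      · intro h2
        exact absurd (Finset.mem_univ _) h2
    rw [hval g, ← hval 1, map_one]
  have hsum : ∑ ψ : IrrCharacter (Matrix.SpecialLinearGroup (Fin 2) F),
      m ψ * charDegree (ψ : Matrix.SpecialLinearGroup (Fin 2) F → ℂ) = 3 := by
    have h1 := congrFun hm 1
    rw [Function.comp_apply, map_one, hχ3, Finset.sum_apply] at h1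
    have h2 : ((∑ ψ : IrrCharacter (Matrix.SpecialLinearGroup (Fin 2) F),
      m ψ * charDegree (ψ : Matrix.SpecialLinearGroup (Fin 2) F → ℂ) : ℕ) : ℂ) = 3 := by
      push_cast
      rw [h1]
      refine Finset.sum_congr rfl fun ψ _ => ?_
      rw [Pi.smul_apply, irr_one_eq_charDegree ψ.2, nsmul_eq_mul]
    exact_mod_cast h2
  have hle : charDegree (ψ : Matrix.SpecialLinearGroup (Fin 2) F → ℂ) ≤ 3 := by
    rw [← hsum]
    refine le_trans ?_ (Finset.single_le_sum (f := fun ψ : IrrCharacter (Matrix.SpecialLinearGroup (Fin 2) F) =>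
      m ψ * charDegree (ψ : Matrix.SpecialLinearGroup (Fin 2) F → ℂ)) (fun _ _ => Nat.zero_le _)
      (Finset.mem_univ ψ))
    exact Nat.le_mul_of_pos_left _ (Nat.pos_of_ne_zero hψm)
  have hψne : (ψ : Matrix.SpecialLinearGroup (Fin 2) F → ℂ) 1 ≠ 1 := by
    intro h1
    have h2 := (hcount h5).1
    rw [Nat.card_eq_one_iff_unique] at h2
    have := h2.1
    have h3 : (⟨ψ, h1⟩ : {χ : IrrCharacter (Matrix.SpecialLinearGroup (Fin 2) F) //
        (χ : Matrix.SpecialLinearGroup (Fin 2) F → ℂ) 1 = 1}) = ⟨triv _, rfl⟩ := Subsingleton.elim _ _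
    exact hψ1 (congrArg Subtype.val h3)
  have hd := hdeg ψ ψ.2
  obtain ⟨r, hr⟩ := hodd
  rw [irr_one_eq_charDegree ψ.2] at hd hψne
  rcases hd with hd | hd | hd | hd | hd | hd
  · exact absurd hd hψne
  · have h1 : charDegree (ψ : Matrix.SpecialLinearGroup (Fin 2) F → ℂ) = Fintype.card F := by exact_mod_cast hd
    omega
  · have h1 : charDegree (ψ : Matrix.SpecialLinearGroup (Fin 2) F → ℂ) = Fintype.card F + 1 := by exact_mod_cast hd
    omega
  · have h1 : charDegree (ψ : Matrix.SpecialLinearGroup (Fin 2) F → ℂ) + 1 = Fintype.card F := by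
      have : (charDegree (ψ : Matrix.SpecialLinearGroup (Fin 2) F → ℂ) : ℂ) + 1 = Fintype.card F := by
        rw [hd]; ring
      exact_mod_cast this
    omega
  · have h1 : charDegree (ψ : Matrix.SpecialLinearGroup (Fin 2) F → ℂ) = (Fintype.card F + 1) / 2 := by exact_mod_cast hd
    omega
  · have h1 : charDegree (ψ : Matrix.SpecialLinearGroup (Fin 2) F → ℂ) = (Fintype.card F - 1) / 2 := by exact_mod_cast hd
    omega

/-- `PSL(2, 5) ≅ PSL(2, 4)` -/
theorem isEvenType_of_five {K : Type*} [Group K] {F : Type*} [Field F] [Fintype F] (hF : Fintype.card F = 5)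
    (e : K ≃* Matrix.ProjectiveSpecialLinearGroup (Fin 2) F) : Walter.Types.IsEvenType K := by
  have c1 : Nat.card (Matrix.ProjectiveSpecialLinearGroup (Fin 2) F) = 60 := by
    have h := ClassicalGeometry.PSL2Basic.card_PSL2_odd F (by rw [hF]; decide)
    rw [hF] at h
    omega
  obtain ⟨f⟩ := Walter.TypeSylow.equiv_alternating (F' := F) (by rw [hF]; norm_num) c1
  have : Finite (GaloisField 2 2) := Nat.finite_of_card_ne_zero (by
    rw [GaloisField.card 2 2 (by norm_num)]; norm_num)
  have := Fintype.ofFinite (GaloisField 2 2)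
  have hF4 : Fintype.card (GaloisField 2 2) = 4 := by
    have := GaloisField.card 2 2 (by norm_num)
    rw [Nat.card_eq_fintype_card] at this
    rw [this]; norm_num
  have c2 : Nat.card (Matrix.ProjectiveSpecialLinearGroup (Fin 2) (GaloisField 2 2)) = 60 := by
    rw [ClassicalGeometry.PSL2Basic.card_PSL2_even _ (by rw [hF4]; decide), hF4]
    norm_num
  obtain ⟨g⟩ := Walter.TypeSylow.equiv_alternating (F' := GaloisField 2 2) (by rw [hF4]; norm_num) c2
  exact ⟨GaloisField 2 2, inferInstance, inferInstance, 2, le_rfl, by rw [hF4]; norm_num,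
    ⟨(e.trans f).trans g.symm⟩⟩

end Cfsg.Agent.H609.Hz
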