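import Cfsg.Agent.H609.HzCentral
import Cfsg.Agent.H609.HzFour
import Cfsg.Agent.CharactersDeep.PElem
import Cfsg.Agent.S0941

/-!
# Herzog's theorem on the principal 2-block: the centralizer of an involution

`exists_cdata`: `H` a group with a central involution `z`, elementary abelian Sylow 2-subgroup of order 8 and one class
of involutions in `H / ⟨z⟩`: the members of the principal 2-block with `z` in the kernel.
-/

set_option autoImplicit false

open Cfsg Cfsg.Agent.Blocks Cfsg.Agent.Blocks.Basic Cfsg.Agent.Blocks.Local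
open scoped ComplexConjugate

namespace Cfsg.Agent.H609.Hz

variable {H : Type*} [Group H] [Finite H] {M : Ideal AlgInt}

/-- The members of the principal block of `H` with the central involution `z` in the kernel. -/
structure CData (M : Ideal AlgInt) (z : H) (X : Fin 4 → IrrCharacter H) (σ : Fin 4 → ℤ) : Prop where
  inj : Function.Injective X
  X0 : X 0 = triv H
  σ0 : σ 0 = 1
  σsq : ∀ i, σ i * σ i = 1
  mem : ∀ i, X i ∈ principalBlock M H
  fix : ∀ i h, (X i : H → ℂ) (z * h) = (X i : H → ℂ) h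
  all : ∀ ξ ∈ principalBlock M H, (ξ : H → ℂ) z = (ξ : H → ℂ) 1 → ∃ i, ξ = X i
  rel : ∀ y, ¬ 2 ∣ orderOf y → ∑ i, (σ i : ℂ) * (X i : H → ℂ) y = 0
  sing : ∀ h, 2 ∣ orderOf h → 2 ∣ orderOf (z * h) → ∀ i, (σ i : ℂ) * (X i : H → ℂ) h = 1

/-- the scalar of a central involution -/
theorem central_scalar {z : H} (hzc : z ∈ Subgroup.center H) (hz2 : z * z = 1) (ξ : IrrCharacter H) :
    (∀ h, (ξ : H → ℂ) (z * h) = (ξ : H → ℂ) h) ∨ (∀ h, (ξ : H → ℂ) (z * h) = -(ξ : H → ℂ) h) := by
  obtain ⟨w, -, hw⟩ := CharactersDeep.PElem.exists_central_scalar ξ.2 hzc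
  have h1 : (ξ : H → ℂ) 1 = w * (w * (ξ : H → ℂ) 1) := by
    rw [← hw, ← hw, mul_one, hz2]
  have h2 : w * w = 1 := by
    have h3 := irr_one_ne_zero ξ.2
    have h4 : (w * w - 1) * (ξ : H → ℂ) 1 = 0 := by linear_combination -h1
    exact sub_eq_zero.1 ((mul_eq_zero.1 h4).resolve_right h3)
  rcases mul_self_eq_one_iff.1 h2 with h | h
  · left; intro x; rw [hw, h, one_mul]
  · right; intro x; rw [hw, h, neg_one_mul]

omit [Finite H] in
theorem card_zpowers_two {z : H} (hz : orderOf z = 2) {n : H} (hn : n ∈ Subgroup.zpowers z) :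
    n = 1 ∨ n = z := by
  obtain ⟨k, rfl⟩ := Subgroup.mem_zpowers_iff.1 hn
  rcases Int.even_or_odd' k with ⟨m, hm | hm⟩
  · left
    rw [hm, zpow_mul]
    have : z ^ (2 : ℤ) = 1 := by
      rw [zpow_ofNat, ← hz]; exact pow_orderOf_eq_one z
    rw [this, one_zpow]
  · right
    rw [hm, zpow_add, zpow_mul]
    have : z ^ (2 : ℤ) = 1 := by
      rw [zpow_ofNat, ← hz]; exact pow_orderOf_eq_one z
    rw [this, one_zpow, one_mul, zpow_one]

omit [Finite H] in
theorem not_dvd_or_of_mk {z : H} (hzc : z ∈ Subgroup.center H) (hz : orderOf z = 2)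
    [hn : (Subgroup.zpowers z).Normal] {h : H}
    (hh : ¬ 2 ∣ orderOf (QuotientGroup.mk' (Subgroup.zpowers z) h)) :
    ¬ 2 ∣ orderOf h ∨ ¬ 2 ∣ orderOf (z * h) := by
  set m := orderOf (QuotientGroup.mk' (Subgroup.zpowers z) h) with hm
  have hz2 : z * z = 1 := by rw [← pow_two, ← hz]; exact pow_orderOf_eq_one z
  have h1 : h ^ m ∈ Subgroup.zpowers z := by
    rw [← QuotientGroup.eq_one_iff]
    have : QuotientGroup.mk' (Subgroup.zpowers z) (h ^ m) = 1 := by
      rw [map_pow, hm, pow_orderOf_eq_one]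
    exact this
  have hodd : Odd m := by
    rw [← Nat.not_even_iff_odd, even_iff_two_dvd]; exact hh
  rcases card_zpowers_two hz h1 with h2 | h2
  · left
    intro h3
    exact hh (h3.trans (orderOf_dvd_of_pow_eq_one h2))
  · right
    intro h3
    have hc : Commute z h := (Subgroup.mem_center_iff.1 hzc h).symm
    have h4 : (z * h) ^ m = 1 := by
      rw [hc.mul_pow, h2]
      obtain ⟨r, hr⟩ := hodd
      rw [hr, pow_add, pow_mul, pow_two, hz2, one_pow, one_mul, pow_one, hz2]
    exact hh (h3.trans (orderOf_dvd_of_pow_eq_one h4))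

/-- **The part of the principal 2-block with `z` in the kernel.** -/
theorem exists_cdata (hM : IsPModular 2 M) (P : Sylow 2 H) (hP8 : Nat.card (P : Subgroup H) = 8)
    (hPe : ∀ a ∈ (P : Subgroup H), a * a = 1) {z : H} (hzc : z ∈ Subgroup.center H)
    (hz : orderOf z = 2) [hn : (Subgroup.zpowers z).Normal]
    (hone : ∀ a b : H ⧸ Subgroup.zpowers z, orderOf a = 2 → orderOf b = 2 → IsConj a b) :
    ∃ (X : Fin 4 → IrrCharacter H) (σ : Fin 4 → ℤ), CData M z X σ := by
  have hMp := isPrime_of_isPModular hM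
  set π := QuotientGroup.mk' (Subgroup.zpowers z) with hπ
  have hsurj : Function.Surjective π := QuotientGroup.mk'_surjective _
  have hz2 : z * z = 1 := by rw [← pow_two, ← hz]; exact pow_orderOf_eq_one z
  have hπz : π z = 1 := (QuotientGroup.eq_one_iff z).2 (Subgroup.mem_zpowers z)
  -- the Sylow 2-subgroup of the quotient
  set P' : Sylow 2 (H ⧸ Subgroup.zpowers z) := P.mapSurjective hsurj with hP'
  have hP'4 : Nat.card (P' : Subgroup (H ⧸ Subgroup.zpowers z)) = 4 := by
    have h1 := (P : Subgroup H).card_mul_index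
    have h2 := (Subgroup.zpowers z).card_mul_index
    rw [Nat.card_zpowers, hz] at h2
    rw [hP8] at h1
    have h3 : Nat.card (H ⧸ Subgroup.zpowers z) = 2 ^ 2 * (P : Subgroup H).index := by
      have : (Subgroup.zpowers z).index = Nat.card (H ⧸ Subgroup.zpowers z) := rfl
      rw [this] at h2
      omega
    have h4 := Walter.TypeSylow.card_sylow_of h3 (by
      rw [← Nat.not_even_iff_odd, even_iff_two_dvd]; exact P.not_dvd_index) P'
    rw [h4]
    norm_num
  have hP'e : ∀ x ∈ (P' : Subgroup (H ⧸ Subgroup.zpowers z)), x * x = 1 := by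
    intro x hx
    obtain ⟨a, ha, rfl⟩ := hx
    rw [← map_mul, hPe a ha, map_one]
  have hK := isKleinFour_of P' hP'4 hP'e
  obtain ⟨ζ₂, ζ₃, ζ₄, ε, hε, hne2, hne3, h23, h24, h34, hB, hinv, -, -, -, hrel⟩ :=
    S0948.result M hM P' hK hone
  obtain ⟨w, hwP, hw2⟩ := KleinSylow.exists_ne_one hK
  obtain ⟨e2, e3, e4⟩ := hinv w hw2
  have m2 : ζ₂ ∈ principalBlock M (H ⧸ Subgroup.zpowers z) := by rw [hB]; exact Or.inr (Or.inl rfl)
  have m3 : ζ₃ ∈ principalBlock M (H ⧸ Subgroup.zpowers z) := by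
    rw [hB]; exact Or.inr (Or.inr (Or.inl rfl))
  have m4 : ζ₄ ∈ principalBlock M (H ⧸ Subgroup.zpowers z) := by
    rw [hB]; exact Or.inr (Or.inr (Or.inr rfl))
  have n2 : ζ₂ ≠ triv _ := ne_triv_iff.2 hne2
  have n3 : ζ₃ ≠ triv _ := ne_triv_iff.2 hne3
  have n4 : ζ₄ ≠ triv (H ⧸ Subgroup.zpowers z) := by
    intro h0
    rw [h0, triv_apply] at e4
    norm_num at e4
  let infl : IrrCharacter (H ⧸ Subgroup.zpowers z) → IrrCharacter H := fun θ =>
    ⟨(θ : H ⧸ Subgroup.zpowers z → ℂ) ∘ π, Characters.Core.isIrr_comp π hsurj θ.2⟩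
  have hinfl : Function.Injective infl := by
    intro θ θ' h
    apply Subtype.ext
    funext x
    obtain ⟨g, rfl⟩ := hsurj x
    exact congrFun (congrArg Subtype.val h) g
  have happ : ∀ θ g, (infl θ : H → ℂ) g = (θ : H ⧸ Subgroup.zpowers z → ℂ) (π g) := fun _ _ => rfl
  let Y : Fin 4 → IrrCharacter (H ⧸ Subgroup.zpowers z) := ![triv _, ζ₂, ζ₃, ζ₄]
  let σ : Fin 4 → ℤ := ![1, 1, ε, -1]
  have hY0 : Y 0 = triv _ := rfl
  have hY1 : Y 1 = ζ₂ := rfl
  have hY2 : Y 2 = ζ₃ := rfl
  have hY3 : Y 3 = ζ₄ := rfl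
  have hYinj : Function.Injective Y := by
    intro i j hij
    fin_cases i <;> fin_cases j <;> first
      | rfl
      | (exfalso; first
          | exact n2 hij
          | exact n2 hij.symm
          | exact n3 hij
          | exact n3 hij.symm
          | exact n4 hij
          | exact n4 hij.symm
          | exact h23 hij
          | exact h23 hij.symm
          | exact h24 hij
          | exact h24 hij.symm
          | exact h34 hij
          | exact h34 hij.symm)
  have hYmem : ∀ i, Y i ∈ principalBlock M (H ⧸ Subgroup.zpowers z) := by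
    intro i
    fin_cases i
    · exact triv_mem
    · exact m2
    · exact m3
    · exact m4
  have hYall : ∀ θ ∈ principalBlock M (H ⧸ Subgroup.zpowers z), ∃ i, θ = Y i := by
    intro θ hθ
    rw [hB] at hθ
    rcases hθ with h | h | h | h
    · exact ⟨0, Subtype.ext h⟩
    · exact ⟨1, h⟩
    · exact ⟨2, h⟩
    · exact ⟨3, h⟩
  have hZp : IsPGroup 2 (Subgroup.zpowers z) := by
    refine IsPGroup.of_card (n := 1) ?_
    rw [Nat.card_zpowers, hz, pow_one]
  have hcent : Subgroup.centralizer ((Subgroup.zpowers z : Subgroup H) : Set H) = ⊤ := by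
    rw [eq_top_iff]
    intro g _
    rw [Subgroup.mem_centralizer_iff]
    intro n hn
    rcases card_zpowers_two hz hn with rfl | rfl
    · rw [mul_one, one_mul]
    · exact (Subgroup.mem_center_iff.1 hzc g).symm
  obtain ⟨hsame, -⟩ := S0941.result 2 M hM (Subgroup.zpowers z) hZp
    ⟨0, by rw [hcent, Subgroup.index_top, pow_zero]⟩
  have hmemiff : ∀ θ : IrrCharacter (H ⧸ Subgroup.zpowers z), infl θ ∈ principalBlock M H ↔
      θ ∈ principalBlock M (H ⧸ Subgroup.zpowers z) := fun θ => (hsame (triv _) θ).symm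
  refine ⟨fun i => infl (Y i), σ, ?_⟩
  refine ⟨hinfl.comp hYinj, ?_, rfl, ?_, ?_, ?_, ?_, ?_, ?_⟩
  · apply Subtype.ext
    funext g
    rfl
  · intro i
    fin_cases i
    · rfl
    · rfl
    · change ε * ε = 1
      rcases hε with h | h <;> rw [h] <;> norm_num
    · rfl
  · intro i
    exact (hmemiff _).2 (hYmem i)
  · intro i h
    rw [happ, happ, map_mul, hπz, one_mul]
  · intro ξ hξ hξz
    have hfix : ∀ h, (ξ : H → ℂ) (z * h) = (ξ : H → ℂ) h := by
      rcases central_scalar hzc hz2 ξ with h | h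
      · exact h
      · exfalso
        have h1 := h 1
        rw [mul_one, hξz] at h1
        have h2 := irr_one_ne_zero ξ.2
        apply h2
        linear_combination h1 / 2
    have := Fintype.ofFinite (Subgroup.zpowers z)
    obtain ⟨θ, hθ⟩ := Deflate.exists_deflation (Subgroup.zpowers z) ξ ξ.2 (by
      rw [Finset.sum_congr rfl (fun (n : Subgroup.zpowers z) _ => (by
        rcases card_zpowers_two hz n.2 with h | h
        · rw [h]
        · rw [h, hξz] : (ξ : H → ℂ) n = (ξ : H → ℂ) 1)), Finset.sum_const, Finset.card_univ, nsmul_eq_mul]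
      refine mul_ne_zero ?_ (irr_one_ne_zero ξ.2)
      exact_mod_cast Fintype.card_ne_zero)
    have hξθ : ξ = infl θ := Subtype.ext hθ
    rw [hξθ, hmemiff] at hξ
    obtain ⟨i, hi⟩ := hYall θ hξ
    exact ⟨i, by rw [hξθ, hi]⟩
  · intro y hy
    have h1 : Odd (orderOf (π y)) := by
      have h2 : orderOf (π y) ∣ orderOf y := orderOf_map_dvd π y
      refine Odd.of_dvd_nat ?_ h2
      rw [← Nat.not_even_iff_odd, even_iff_two_dvd]; exact hy
    have h2 := hrel (π y) h1
    rw [Fin.sum_univ_four]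
    change ((1 : ℤ) : ℂ) * 1 + ((1 : ℤ) : ℂ) * (ζ₂ : _ → ℂ) (π y) + (ε : ℂ) * (ζ₃ : _ → ℂ) (π y) +
      ((-1 : ℤ) : ℂ) * (ζ₄ : _ → ℂ) (π y) = 0
    push_cast
    linear_combination h2
  · intro h h1 h2 i
    have h3 : 2 ∣ orderOf (π h) := by
      by_contra hcon
      rcases not_dvd_or_of_mk hzc hz hcon with h4 | h4
      · exact h4 h1
      · exact h4 h2
    have h4 : ∀ i, (Y i : _ → ℂ) (π h) = (Y i : _ → ℂ) w := fun i =>
      apply_sing hM P' hK hone hwP hw2 h3 (hYmem i)
    rw [happ, h4]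
    fin_cases i
    · change ((1 : ℤ) : ℂ) * 1 = 1
      norm_num
    · change ((1 : ℤ) : ℂ) * (ζ₂ : _ → ℂ) w = 1
      rw [e2]; norm_num
    · change (ε : ℂ) * (ζ₃ : _ → ℂ) w = 1
      rw [e3]
      rcases hε with h | h <;> rw [h] <;> norm_num
    · change ((-1 : ℤ) : ℂ) * (ζ₄ : _ → ℂ) w = 1
      rw [e4]; norm_num

end Cfsg.Agent.H609.Hz
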