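import Cfsg.Agent.H609.HzSection
import Cfsg.Agent.H609.HzArith
import Cfsg.Agent.Blocks.PrincipalInflate
import Cfsg.Agent.S0944
import Cfsg.Agent.Characters.SchurBound

/-!
# Herzog's theorem on the principal 2-block: elementary abelian Sylow 2-subgroup of order 8

`false_of_eight`: the hypothesis of the theorem does not hold if the Sylow 2-subgroup is elementary abelian of order
8, all involutions are conjugate and `C(s) / ⟨s⟩`, `s` an involution, has one class of involutions.
-/

set_option autoImplicit false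

open Cfsg Cfsg.Agent.Blocks Cfsg.Agent.Blocks.Basic Cfsg.Agent.Blocks.Local
open scoped ComplexConjugate

namespace Cfsg.Agent.H609.Hz

section H

variable {H : Type*} [Group H] [Fintype H] {M : Ideal AlgInt} {z : H} {X : Fin 4 → IrrCharacter H}
  {σ : Fin 4 → ℤ}

/-- The members of the principal block on the elements of odd order. -/
theorem exists_eq_X (hM : IsPModular 2 M) (D : CData M z X σ) (hzc : z ∈ Subgroup.center H)
    (hz : orderOf z = 2) {μ : H →* ℂˣ} (hμz : (μ z : ℂ) = -1) (hμ : ∀ y : H, ¬ 2 ∣ orderOf y → μ y = 1)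
    {ξ : IrrCharacter H} (hξ : ξ ∈ principalBlock M H) :
    ∃ a, ∀ y : H, ¬ 2 ∣ orderOf y → (ξ : H → ℂ) y = (X a : H → ℂ) y := by
  have hz2 : z * z = 1 := by rw [← pow_two, ← hz]; exact pow_orderOf_eq_one z
  rcases central_scalar hzc hz2 ξ with h | h
  · obtain ⟨a, ha⟩ := D.all ξ hξ (by have := h 1; rwa [mul_one] at this)
    exact ⟨a, fun y _ => by rw [ha]⟩
  · have h1 := twist_mem hM hμ hξ
    obtain ⟨a, ha⟩ := D.all (tw μ ξ) h1 (by
      rw [tw_apply, tw_apply, map_one, Units.val_one, mul_one, hμz]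
      have := h 1
      rw [mul_one] at this
      rw [this]; ring)
    refine ⟨a, fun y hy => ?_⟩
    rw [← ha, tw_apply, hμ y hy, Units.val_one, mul_one]

/-- **The sum over the principal block of the centralizer.** -/
theorem sum_block (hM : IsPModular 2 M) (D : CData M z X σ) (hzc : z ∈ Subgroup.center H)
    (hz : orderOf z = 2) {μ : H →* ℂˣ} (hμz : (μ z : ℂ) = -1) (hμ : ∀ y : H, ¬ 2 ∣ orderOf y → μ y = 1)
    {y y' : H} (hy : ¬ 2 ∣ orderOf y) (hy' : ¬ 2 ∣ orderOf y') :
    ∑ᶠ ξ ∈ principalBlock M H, (ξ : H → ℂ) y * conj ((ξ : H → ℂ) y') =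
      2 * ∑ a, (X a : H → ℂ) y * conj ((X a : H → ℂ) y') := by
  classical
  have hfin : Finite (IrrCharacter H) := Characters.Core.finite_irr
  have := Fintype.ofFinite (IrrCharacter H)
  have hz2 : z * z = 1 := by rw [← pow_two, ← hz]; exact pow_orderOf_eq_one z
  have hzz : ∀ ξ : IrrCharacter H, (ξ : H → ℂ) z = (ξ : H → ℂ) 1 ∨ (ξ : H → ℂ) z = -(ξ : H → ℂ) 1 := by
    intro ξ
    rcases central_scalar hzc hz2 ξ with h | h
    · left; have := h 1; rwa [mul_one] at this
    · right; have := h 1; rwa [mul_one] at this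
  have hμ' : ∀ y : H, ¬ 2 ∣ orderOf y → μ⁻¹ y = 1 := by
    intro y hy
    rw [MonoidHom.inv_apply, hμ y hy, inv_one]
  have hμz' : ((μ⁻¹ z : ℂˣ) : ℂ) = -1 := by
    rw [MonoidHom.inv_apply, Units.val_inv_eq_inv_val, hμz]
    norm_num
  rw [finsum_mem_eq_toFinset_sum, ← Finset.sum_filter_add_sum_filter_not _
    (fun ξ : IrrCharacter H => (ξ : H → ℂ) z = (ξ : H → ℂ) 1)]
  have e1 : ∑ ξ ∈ (principalBlock M H).toFinset.filter (fun ξ : IrrCharacter H => (ξ : H → ℂ) z = (ξ : H → ℂ) 1),
      (ξ : H → ℂ) y * conj ((ξ : H → ℂ) y') = ∑ a, (X a : H → ℂ) y * conj ((X a : H → ℂ) y') := by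
    have : (principalBlock M H).toFinset.filter (fun ξ : IrrCharacter H => (ξ : H → ℂ) z = (ξ : H → ℂ) 1) =
        Finset.univ.image X := by
      ext ξ
      rw [Finset.mem_filter, Set.mem_toFinset, Finset.mem_image]
      constructor
      · rintro ⟨h1, h2⟩
        obtain ⟨a, ha⟩ := D.all ξ h1 h2
        exact ⟨a, Finset.mem_univ _, ha.symm⟩
      · rintro ⟨a, -, rfl⟩
        refine ⟨D.mem a, ?_⟩
        have := D.fix a 1
        rwa [mul_one] at this
    rw [this, Finset.sum_image fun a _ b _ hab => D.inj hab]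
  have e2 : ∑ ξ ∈ (principalBlock M H).toFinset.filter (fun ξ : IrrCharacter H => ¬ (ξ : H → ℂ) z = (ξ : H → ℂ) 1),
      (ξ : H → ℂ) y * conj ((ξ : H → ℂ) y') =
      ∑ ξ ∈ (principalBlock M H).toFinset.filter (fun ξ : IrrCharacter H => (ξ : H → ℂ) z = (ξ : H → ℂ) 1),
      (ξ : H → ℂ) y * conj ((ξ : H → ℂ) y') := by
    refine Finset.sum_bij' (fun ξ _ => tw μ ξ) (fun ξ _ => tw μ⁻¹ ξ) ?_ ?_ ?_ ?_ ?_
    · intro ξ hξ
      rw [Finset.mem_filter, Set.mem_toFinset] at hξ ⊢
      refine ⟨twist_mem hM hμ hξ.1, ?_⟩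
      rw [tw_apply, tw_apply, map_one, Units.val_one, mul_one, hμz, (hzz ξ).resolve_left hξ.2]
      ring
    · intro ξ hξ
      rw [Finset.mem_filter, Set.mem_toFinset] at hξ ⊢
      refine ⟨twist_mem hM hμ' hξ.1, ?_⟩
      rw [tw_apply, tw_apply, map_one, Units.val_one, mul_one, hμz', hξ.2]
      intro h
      apply irr_one_ne_zero ξ.2
      linear_combination -h / 2
    · intro ξ _
      exact tw_inv_tw μ ξ
    · intro ξ _
      exact tw_tw_inv μ ξ
    · intro ξ _
      rw [tw_apply, tw_apply, hμ y hy, hμ y' hy', Units.val_one, mul_one, mul_one]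
  rw [e2, e1]
  ring

/-- **Integrality.** -/
theorem exists_int (D : CData M z X σ) (hzc : z ∈ Subgroup.center H)
    (hz : orderOf z = 2) {μ : H →* ℂˣ} (hμz : (μ z : ℂ) = -1) (hμ : ∀ y : H, ¬ 2 ∣ orderOf y → μ y = 1)
    {θ : H → ℂ} (hθ : IsCharacter H θ) (i : Fin 4) :
    ∃ n : ℤ, fn X σ i (fun y => θ (z * y)) = n := by
  obtain ⟨n₁, hn₁⟩ := Characters.Core.classInner_isNat hθ (irr_isCharacter (X i).2)
  obtain ⟨n₂, hn₂⟩ := Characters.Core.classInner_isNat hθ (irr_isCharacter (X 0).2)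
  obtain ⟨n₃, hn₃⟩ := Characters.Core.classInner_isNat hθ (irr_isCharacter (tw μ (X i)).2)
  obtain ⟨n₄, hn₄⟩ := Characters.Core.classInner_isNat hθ (irr_isCharacter (tw μ (X 0)).2)
  refine ⟨(σ i * n₁ - n₂) - (σ i * n₃ - n₄), ?_⟩
  have e1 : classInner θ (phi X σ i) = (σ i : ℂ) * n₁ - n₂ := by
    rw [phi_eq D, Characters.Core.classInner_sub_right, Characters.Core.classInner_smul_right, hn₁,
      hn₂, map_intCast]
  have e2 : classInner (fun h => θ h * conj (μ h : ℂ)) (phi X σ i) = (σ i : ℂ) * n₃ - n₄ := by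
    have h1 : classInner (fun h => θ h * conj (μ h : ℂ)) (phi X σ i) =
        classInner θ ((σ i : ℂ) • (tw μ (X i) : H → ℂ) - (tw μ (X 0) : H → ℂ)) := by
      rw [Characters.Core.classInner_def, Characters.Core.classInner_def]
      congr 1
      refine Finset.sum_congr rfl fun h _ => ?_
      rw [phi_eq D, Pi.sub_apply, Pi.sub_apply, Pi.smul_apply, Pi.smul_apply, tw_apply, tw_apply,
        smul_eq_mul, smul_eq_mul, mul_assoc, ← map_mul]
      congr 2
      ring
    rw [h1, Characters.Core.classInner_sub_right, Characters.Core.classInner_smul_right, hn₃,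
      hn₄, map_intCast]
  rw [classInner_phi D hzc hz] at e1 e2
  push_cast
  rw [← e1, ← e2, ← mul_sub, ← Finset.sum_sub_distrib, fn, mul_comm (2 : ℂ), mul_assoc]
  congr 1
  rw [Finset.mul_sum]
  refine Finset.sum_congr rfl fun y hy => ?_
  have h1 := hμ y (mem_oddSet.1 hy)
  have h2 : ((μ (z * y) : ℂˣ) : ℂ) = -1 := by rw [map_mul, h1, mul_one, hμz]
  simp only [h1, h2, Units.val_one, map_one, map_neg]
  ring

end H

section G

variable {G : Type*} [Group G] [Finite G] {M : Ideal AlgInt}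

theorem cf_gram {H : Type*} [Group H] {M : Ideal AlgInt} {z : H} {X : Fin 4 → IrrCharacter H}
    {σ : Fin 4 → ℤ} (D : CData M z X σ) (i j : Fin 3) :
    ∑ a, cf σ a i.succ * cf σ a j.succ = 1 + if i = j then 1 else 0 := by
  have h := D.σsq
  fin_cases i <;> fin_cases j <;> simp [Fin.sum_univ_four, cf, h]

/-- The degrees of the members of the principal block. -/
theorem seven_le {P : Sylow 2 G} (hP8 : Nat.card (P : Subgroup G) = 8)
    (hPe : ∀ a ∈ (P : Subgroup G), a * a = 1)
    (hone : ∀ a b : G, orderOf a = 2 → orderOf b = 2 → IsConj a b) {s : G} (hs : orderOf s = 2)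
    {χ : IrrCharacter G} (hχ : ∃ x ∈ (P : Subgroup G), (χ : G → ℂ) x ≠ (χ : G → ℂ) 1) :
    7 ≤ (charDegree (χ : G → ℂ) : ℤ) := by
  classical
  have := Fintype.ofFinite P
  obtain ⟨m, hm, -⟩ := S0944.result χ s hs
  have hord : ∀ x ∈ (P : Subgroup G), x ≠ 1 → orderOf x = 2 := by
    intro x hx hx1
    exact orderOf_eq_prime (by rw [pow_two]; exact hPe x hx) hx1
  have hval : ∀ x ∈ (P : Subgroup G), x ≠ 1 → (χ : G → ℂ) x = m := by
    intro x hx hx1
    rw [← hm]
    exact irr_isConj χ.2 (hone x s (hord x hx hx1) hs)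
  have hc := Characters.Core.isCharacter_comp (P : Subgroup G).subtype (irr_isCharacter χ.2)
  obtain ⟨n, hn⟩ := Characters.Core.classInner_isNat hc
    (Characters.Core.isCharacter_one (G := (P : Subgroup G)))
  rw [Characters.Core.classInner_def] at hn
  have h1 : ∑ g : (P : Subgroup G), ((χ : G → ℂ) ∘ (P : Subgroup G).subtype) g *
      conj ((1 : ↥(P : Subgroup G) → ℂ) g) = (charDegree (χ : G → ℂ) : ℂ) + 7 * m := by
    rw [← Finset.add_sum_erase _ _ (Finset.mem_univ (1 : (P : Subgroup G)))]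
    congr 1
    · simp only [Function.comp_apply, map_one, Pi.one_apply, mul_one]
      exact irr_one_eq_charDegree χ.2
    · have h2 : ∀ g ∈ Finset.univ.erase (1 : (P : Subgroup G)),
          ((χ : G → ℂ) ∘ (P : Subgroup G).subtype) g * conj ((1 : ↥(P : Subgroup G) → ℂ) g) = m := by
        intro g hg
        simp only [Function.comp_apply, Pi.one_apply, map_one, mul_one]
        exact hval g g.2 fun h => Finset.ne_of_mem_erase hg (Subtype.ext h)
      rw [Finset.sum_congr rfl h2, Finset.sum_const, Finset.card_erase_of_mem (Finset.mem_univ _),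
        Finset.card_univ, ← Nat.card_eq_fintype_card, hP8]
      simp
  rw [h1, hP8] at hn
  have e1 : (charDegree (χ : G → ℂ) : ℤ) + 7 * m = 8 * n := by
    have : (charDegree (χ : G → ℂ) : ℂ) + 7 * m = 8 * n := by
      push_cast at hn
      field_simp at hn
      linear_combination hn
    exact_mod_cast this
  have e2 : m ≤ (charDegree (χ : G → ℂ) : ℤ) := by
    have h3 := Characters.SchurBound.norm_le (irr_isCharacter χ.2) (irr_one_eq_charDegree χ.2) s
    rw [hm] at h3
    have h4 : ((m : ℤ) : ℝ) ≤ (charDegree (χ : G → ℂ) : ℝ) := by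
      refine le_trans (le_abs_self _) ?_
      simpa using h3
    exact_mod_cast h4
  have e3 : m ≠ (charDegree (χ : G → ℂ) : ℤ) := by
    intro h4
    obtain ⟨x, hx, hx1⟩ := hχ
    apply hx1
    by_cases h5 : x = 1
    · rw [h5]
    · rw [hval x hx h5, h4, irr_one_eq_charDegree χ.2]
      simp
  omega

end G

end Cfsg.Agent.H609.Hz
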