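import Mathlib
import Cfsg.Agent.Walter.AbStruct

/-!
# Groups with one class of involutions and elementary abelian Sylow 2-subgroup

`normal_or_simple`: if `O(G) = 1`, a Sylow 2-subgroup `P ≠ 1` is elementary abelian and all involutions
are conjugate, then `P` is normal or contained in a normal simple subgroup with trivial centralizer.
-/

set_option autoImplicit false

namespace Cfsg.Agent.H609.Hz

open Subgroup Cfsg
open Cfsg.Agent.Walter
open Cfsg.Agent.SignalizersComponents.Components

variable {G : Type*} [Group G] [Finite G]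

/-- **Structure.** -/
theorem normal_or_simple (hO : pPrimeCore 2 G = ⊥) (P : Sylow 2 G)
    (hP : ∀ a ∈ (P : Subgroup G), a * a = 1) (hP1 : (P : Subgroup G) ≠ ⊥)
    (hconj : ∀ a b : G, a ≠ 1 → a * a = 1 → b ≠ 1 → b * b = 1 → IsConj a b) :
    (P : Subgroup G).Normal ∨ ∃ K : Subgroup G, K.Normal ∧ (P : Subgroup G) ≤ K ∧ IsSimpleGroup K ∧
      ¬ IsMulCommutative K ∧ centralizer (K : Set G) = ⊥ := by
  have hPc : ∀ a ∈ (P : Subgroup G), ∀ b ∈ (P : Subgroup G), a * b = b * a := by
    intro a ha b hb
    have h1 := hP a ha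
    have h2 := hP b hb
    have h3 := hP (a * b) (mul_mem ha hb)
    calc a * b = a * b * 1 := (mul_one _).symm
      _ = (a * b) * ((b * b) * (a * a))⁻¹ * 1 := by rw [h1, h2]; group
      _ = a * b * (a⁻¹ * a⁻¹ * b⁻¹ * b⁻¹) * (a * b * (a * b)) := by rw [h3]; group
      _ = b⁻¹ * a⁻¹ * (a * b * (a * b)) := by
        have : a⁻¹ = a := inv_eq_of_mul_eq_one_left h1
        have h5 : b⁻¹ = b := inv_eq_of_mul_eq_one_left h2
        have h6 : (a * b)⁻¹ = a * b := inv_eq_of_mul_eq_one_left h3
        have h7 : a⁻¹ * a⁻¹ = 1 := by rw [this, h1]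
        have h8 : b⁻¹ * b⁻¹ = 1 := by rw [h5, h2]
        rw [mul_assoc (a⁻¹ * a⁻¹), h7, h8, mul_one, mul_one, ← mul_inv_rev, h6]
      _ = (a * b) * 1 := by group
      _ = b * a := by
        have : a⁻¹ = a := inv_eq_of_mul_eq_one_left h1
        have h5 : b⁻¹ = b := inv_eq_of_mul_eq_one_left h2
        have h6 : (a * b)⁻¹ = a * b := inv_eq_of_mul_eq_one_left h3
        rw [mul_one, ← h6, mul_inv_rev, this, h5]
  by_cases hcore : pCore 2 G = ⊥
  · -- a component
    have hS := AbStruct.sylow_eq hO hPc
    rw [hcore, bot_sup_eq] at hS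
    obtain ⟨K, hK⟩ : ∃ K : Subgroup G, IsComponent K := by
      by_contra hcon
      push Not at hcon
      apply hP1
      rw [hS, iSup_eq_bot]
      intro K
      exact absurd K.2 (hcon K.1)
    have hKs := AbStruct.isSimpleGroup hO hPc hK
    have hKn := AbStruct.not_comm hK
    have hinv : ∀ L : Subgroup G, IsComponent L → ∃ t ∈ L, t ≠ 1 ∧ t * t = 1 := by
      intro L hL
      have h1 := AbStruct.inf_ne_bot hO P hL
      obtain ⟨t, ht⟩ := Subgroup.ne_bot_iff_exists_ne_one.1 h1
      exact ⟨t, t.2.2, fun h => ht (Subtype.ext h), hP t t.2.1⟩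
    have hcz : ∀ L : Subgroup G, IsComponent L → L ⊓ centralizer (L : Set G) = ⊥ := fun L hL =>
      AbStruct.inf_centralizer hO hPc hL
    -- uniqueness
    have huniq : ∀ L : Subgroup G, IsComponent L → L = K := by
      intro L hL
      by_contra hne
      obtain ⟨t, ht, ht1, ht2⟩ := hinv K hK
      obtain ⟨r, hr, hr1, hr2⟩ := hinv L hL
      have hcomm := Cfsg.Agent.S1270.component_comm_of_ne hL hK hne
      rw [commutator_eq_bot_iff_le_centralizer] at hcomm
      have hrt : t * r = r * t := mem_centralizer_iff.1 (hcomm hr) t ht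
      have hne1 : t * r ≠ 1 := by
        intro h
        have h1 : t ∈ L := by
          rw [eq_inv_of_mul_eq_one_left h]
          exact inv_mem hr
        have h2 : t ∈ K ⊓ centralizer (K : Set G) := ⟨ht, hcomm h1⟩
        rw [hcz K hK] at h2
        exact ht1 h2
      have hsq : t * r * (t * r) = 1 := by
        calc t * r * (t * r) = t * (r * t) * r := by group
          _ = t * t * (r * r) := by rw [← hrt]; group
          _ = 1 := by rw [ht2, hr2, one_mul]
      obtain ⟨g, hg⟩ := isConj_iff.1 (hconj t (t * r) ht1 ht2 hne1 hsq)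
      -- `t r ∈ K^g`
      set J : Subgroup G := K.map (MulAut.conj g).toMonoidHom with hJdef
      have hJ : IsComponent J := isComponent_conj g hK
      have hmem : t * r ∈ J := by
        rw [← hg]
        exact ⟨t, ht, rfl⟩
      by_cases hJK : J = K
      · have h1 : r ∈ K := by
          have : t * r ∈ K := hJK ▸ hmem
          have h2 := mul_mem (inv_mem ht) this
          rwa [inv_mul_cancel_left] at h2
        have h2 : r ∈ K ⊓ centralizer (K : Set G) := ⟨h1, hcomm hr⟩
        rw [hcz K hK] at h2
        exact hr1 h2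
      · have h1 := Cfsg.Agent.S1270.component_comm_of_ne hJ hK hJK
        rw [commutator_eq_bot_iff_le_centralizer] at h1
        have h2 := h1 hmem
        have h3 : t ∈ centralizer (K : Set G) := by
          have := mul_mem h2 (inv_mem (hcomm hr))
          rwa [mul_inv_cancel_right] at this
        have h4 : t ∈ K ⊓ centralizer (K : Set G) := ⟨ht, h3⟩
        rw [hcz K hK] at h4
        exact ht1 h4
    have hKnormal : K.Normal := by
      constructor
      intro n hn g
      have h1 := huniq _ (isComponent_conj g hK)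
      rw [← h1]
      exact ⟨n, hn, rfl⟩
    have hPK : (P : Subgroup G) ≤ K := by
      rw [hS]
      refine iSup_le fun L => ?_
      rw [huniq L.1 L.2]
      exact inf_le_right
    refine Or.inr ⟨K, hKnormal, hPK, hKs, hKn, ?_⟩
    -- the centralizer is normal of odd order
    have hCn : (centralizer (K : Set G)).Normal := inferInstance
    have hodd : (Nat.card (centralizer (K : Set G))).Coprime 2 := by
      rw [Nat.coprime_comm, Nat.Prime.coprime_iff_not_dvd Nat.prime_two]
      intro h
      obtain ⟨x, hx⟩ := exists_prime_orderOf_dvd_card' 2 h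
      have hx1 : (x : G) ≠ 1 := by
        intro h1
        have : x = 1 := Subtype.ext h1
        rw [this, orderOf_one] at hx
        omega
      have hx2 : (x : G) * x = 1 := by
        have h1 : x ^ 2 = 1 := by rw [← hx]; exact pow_orderOf_eq_one x
        have := congrArg Subtype.val h1
        simpa [pow_two] using this
      obtain ⟨t, ht, ht1, ht2⟩ := hinv K hK
      obtain ⟨g, hg⟩ := isConj_iff.1 (hconj t x ht1 ht2 hx1 hx2)
      have h3 : (x : G) ∈ K := by
        rw [← hg]
        exact hKnormal.conj_mem t ht g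
      have h4 : (x : G) ∈ K ⊓ centralizer (K : Set G) := ⟨h3, x.2⟩
      rw [hcz K hK] at h4
      exact hx1 h4
    rw [eq_bot_iff, ← hO]
    exact Lib.Cores.le_pPrimeCore hCn hodd
  · left
    -- the 2-core contains all involutions
    obtain ⟨t', ht'⟩ := Subgroup.ne_bot_iff_exists_ne_one.1 hcore
    obtain ⟨t, ht, ht1⟩ : ∃ t : G, t ∈ pCore 2 G ∧ t ≠ 1 :=
      ⟨t', t'.2, fun h => ht' (Subtype.ext h)⟩
    have hle : pCore 2 G ≤ (P : Subgroup G) := Lib.Cores.pCore_le_sylow P
    have hn := Lib.Cores.pCore_normal (G := G) 2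
    have hge : (P : Subgroup G) ≤ pCore 2 G := by
      intro x hx
      by_cases hx1 : x = 1
      · rw [hx1]; exact one_mem _
      obtain ⟨g, hg⟩ := isConj_iff.1 (hconj t x ht1 (hP t (hle ht)) hx1 (hP x hx))
      rw [← hg]
      exact hn.conj_mem t ht g
    rw [le_antisymm hge hle]
    exact hn

end Cfsg.Agent.H609.Hz
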