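import Cfsg.Agent.H609.HzQuot
import Cfsg.Agent.H609.HzStruct
import Cfsg.Agent.Walter.PSLFacts
import Cfsg.Agent.Walter.AutFix
import Cfsg.Agent.OddCyclic.ZTPsl

/-!
# Herzog's theorem on the principal 2-block: normal Sylow subgroup and `PSL(2, 2^n)`

* `eq_top_of_centralizer_le`: a normal subgroup containing `P C_G(P)` is the whole group;
* `card_eq_two`: the case of a normal Sylow 2-subgroup;
* `even_type`: the case of a normal subgroup `PSL(2, 2^n)` of odd index.
-/

set_option autoImplicit false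

open Cfsg Cfsg.Agent.Blocks Cfsg.Agent.Blocks.Basic Cfsg.Agent.Blocks.Local
open scoped ComplexConjugate

namespace Cfsg.Agent.H609.Hz

theorem exists_ne_triv {H : Type*} [Group H] [Finite H] [Nontrivial H] :
    ∃ χ : IrrCharacter H, χ ≠ triv H := by
  classical
  have := Fintype.ofFinite H
  have : Finite (IrrCharacter H) := Characters.Core.finite_irr
  have := Fintype.ofFinite (IrrCharacter H)
  obtain ⟨x, hx⟩ := exists_ne (1 : H)
  by_contra hcon
  push Not at hcon
  have h1 := S0145.sum_irr_mul_conj x (1 : H)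
  rw [if_neg (fun hc => hx (isConj_one_left.1 hc))] at h1
  have h3 : ∀ χ ∈ (Finset.univ : Finset (IrrCharacter H)),
      (χ : H → ℂ) x * conj ((χ : H → ℂ) 1) = 1 := by
    intro χ _
    rw [hcon χ, triv_apply, triv_apply, map_one, mul_one]
  have h2 : 0 < Fintype.card (IrrCharacter H) := Fintype.card_pos_iff.2 ⟨triv H⟩
  rw [Finset.sum_congr rfl h3, Finset.sum_const, Finset.card_univ, nsmul_eq_mul, mul_one] at h1
  exact h2.ne' (by exact_mod_cast h1)

variable {G : Type*} [Group G] [Finite G] {M : Ideal AlgInt}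

/-- A normal subgroup containing a Sylow 2-subgroup and its centralizer is the whole group. -/
theorem eq_top_of_centralizer_le (hM : IsPModular 2 M) {u : G} {k : ℂ} (h : HypK M u k) (hk : k ≠ 0)
    (P : Sylow 2 G) (N : Subgroup G) (hN : N.Normal) (hPN : (P : Subgroup G) ≤ N)
    (hC : Subgroup.centralizer ((P : Subgroup G) : Set G) ≤ N) : N = ⊤ := by
  by_contra hne
  have hidx : N.index ≠ 1 := fun h1 => hne (Subgroup.index_eq_one.1 h1)
  have hnt : Nontrivial (G ⧸ N) := by
    rw [← Finite.one_lt_card_iff_nontrivial]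
    have h1 : 0 < Nat.card (G ⧸ N) := Nat.card_pos
    have h2 : Nat.card (G ⧸ N) ≠ 1 := hidx
    omega
  have hodd : Odd N.index := by
    rw [← Nat.not_even_iff_odd, even_iff_two_dvd]
    intro h2
    exact P.not_dvd_index (h2.trans (Subgroup.index_dvd_of_le hPN))
  obtain ⟨lam, hlam⟩ := exists_ne_triv (H := G ⧸ N)
  let lam' : IrrCharacter G := ⟨(lam : G ⧸ N → ℂ) ∘ (QuotientGroup.mk' N),
    Characters.Core.isIrr_comp (QuotientGroup.mk' N) (QuotientGroup.mk'_surjective N) lam.2⟩
  have hker : ∀ n ∈ N, (lam' : G → ℂ) n = (lam' : G → ℂ) 1 := by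
    intro n hn
    change (lam : G ⧸ N → ℂ) (QuotientGroup.mk' N n) = (lam : G ⧸ N → ℂ) (QuotientGroup.mk' N 1)
    rw [map_one, QuotientGroup.mk'_apply, (QuotientGroup.eq_one_iff n).2 hn]
  have h1 : lam' ∈ principalBlock M G := mem_principalBlock_of_ker hM P N hodd hC lam' hker
  have h2 : lam' ≠ triv G := by
    intro h3
    apply hlam
    apply Subtype.ext
    funext x
    obtain ⟨g, rfl⟩ := QuotientGroup.mk'_surjective N x
    have : (lam' : G → ℂ) g = 1 := by rw [h3]; rfl
    exact this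
  obtain ⟨x, hx, hx1⟩ := exists_apply_ne hM h hk P h1 h2
  exact hx1 (hker x (hPN hx))

/-- **The case of a normal Sylow 2-subgroup.** -/
theorem card_eq_two (hM : IsPModular 2 M) {u : G} {k : ℂ} (h : HypK M u k) (hk : k ≠ 0)
    (hO : pPrimeCore 2 G = ⊥) (P : Sylow 2 G) (hPn : (P : Subgroup G).Normal)
    (hP : ∀ a ∈ (P : Subgroup G), a * a = 1) (hP1 : (P : Subgroup G) ≠ ⊥)
    (hconj : ∀ a b : G, a ≠ 1 → a * a = 1 → b ≠ 1 → b * b = 1 → IsConj a b) : Nat.card G = 2 := by
  have hcomm : ∀ a ∈ (P : Subgroup G), ∀ b ∈ (P : Subgroup G), a * b = b * a :=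
    Walter.AutFacts.comm_of_sq P hP
  -- the centralizer of `P`
  set C := Subgroup.centralizer ((P : Subgroup G) : Set G) with hCdef
  have hCn : C.Normal := inferInstance
  have hPC : (P : Subgroup G) ≤ C := by
    intro x hx
    rw [hCdef, Subgroup.mem_centralizer_iff]
    exact fun y hy => hcomm y hy x hx
  have hle : C ≤ P := by
    -- `P` is a central Sylow subgroup of `C`; use the normal complement
    set S : Sylow 2 C := P.subtype hPC with hS
    have hSc : Subgroup.normalizer ((S : Subgroup C) : Set C) ≤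
        Subgroup.centralizer ((S : Subgroup C) : Set C) := by
      intro x _
      rw [Subgroup.mem_centralizer_iff]
      intro y hy
      apply Subtype.ext
      have hyP : (y : G) ∈ (P : Subgroup G) := Subgroup.mem_subgroupOf.1 hy
      exact Subgroup.mem_centralizer_iff.1 x.2 y hyP
    have hker := MonoidHom.not_dvd_card_ker_transferSylow S hSc
    have hcop : (Nat.card (MonoidHom.transferSylow S hSc).ker).Coprime 2 := by
      rw [Nat.coprime_comm, Nat.Prime.coprime_iff_not_dvd Nat.prime_two]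
      exact hker
    have h1 := Lib.Cores.le_pPrimeCore (inferInstance : (MonoidHom.transferSylow S hSc).ker.Normal) hcop
    have h2 := Lib.Cores.map_subtype_pPrimeCore 2 hCn
    rw [hO, inf_bot_eq, Subgroup.map_eq_bot_iff, Subgroup.ker_subtype, le_bot_iff] at h2
    rw [h2, le_bot_iff] at h1
    have h3 := MonoidHom.ker_transferSylow_isComplement' S hSc
    rw [h1] at h3
    have h4 : (S : Subgroup C) = ⊤ := Subgroup.isComplement'_bot_left.1 h3
    intro x hx
    have h5 : (⟨x, hx⟩ : C) ∈ (S : Subgroup C) := h4 ▸ Subgroup.mem_top _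
    exact Subgroup.mem_subgroupOf.1 h5
  have htop : (P : Subgroup G) = ⊤ := eq_top_of_centralizer_le hM h hk P P hPn le_rfl hle
  have hcomm' : ∀ a b : G, a * b = b * a := fun a b =>
    hcomm a (htop ▸ Subgroup.mem_top a) b (htop ▸ Subgroup.mem_top b)
  have hsq : ∀ a : G, a * a = 1 := fun a => hP a (htop ▸ Subgroup.mem_top a)
  obtain ⟨t, ht⟩ := Subgroup.ne_bot_iff_exists_ne_one.1 hP1
  have ht1 : (t : G) ≠ 1 := fun h1 => ht (Subtype.ext h1)
  rw [Nat.card_eq_two_iff]
  refine ⟨1, t, ht1.symm, ?_⟩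
  rw [Set.eq_univ_iff_forall]
  intro x
  by_cases hx : x = 1
  · exact Or.inl hx
  · right
    obtain ⟨c, hc⟩ := isConj_iff.1 (hconj t x ht1 (hsq t) hx (hsq x))
    rw [Set.mem_singleton_iff, ← hc, hcomm' c, mul_inv_cancel_right]

/-- In `PSL(2, 2^n) ≤ G` normal with trivial centralizer the Sylow 2-subgroup is self-centralizing. -/
theorem centralizer_le_of_even {K : Subgroup G} (hK : K.Normal) (hKs : IsSimpleGroup K)
    (hKC : Subgroup.centralizer (K : Set G) = ⊥) (P : Sylow 2 G) (hPK : (P : Subgroup G) ≤ K)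
    {F : Type*} [Field F] [Fintype F] {n : ℕ} (hn : 2 ≤ n) (hF : Fintype.card F = 2 ^ n)
    (e : K ≃* Matrix.ProjectiveSpecialLinearGroup (Fin 2) F) :
    Subgroup.centralizer ((P : Subgroup G) : Set G) ≤ K := by
  classical
  set S : Sylow 2 K := P.subtype hPK with hS
  obtain ⟨h1, h2, h3⟩ := Walter.PSLFacts.even_facts (by omega) hF e S
  have hcommS : ∀ a ∈ (S : Subgroup K), ∀ b ∈ (S : Subgroup K), a * b = b * a :=
    Walter.AutFacts.comm_of_sq S h1
  have hTI : ∀ Q : Sylow 2 K, Q ≠ S → (S : Subgroup K) ⊓ Q = ⊥ := by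
    intro Q hQ
    rw [eq_bot_iff]
    intro x hx
    by_contra hx1
    have hx1' : x ≠ 1 := fun h => hx1 (Subgroup.mem_bot.2 h)
    obtain ⟨-, h2', -⟩ := Walter.PSLFacts.even_facts (by omega) hF e Q
    apply hQ
    apply Sylow.ext
    rw [← h2 x hx.1 hx1', ← h2' x hx.2 hx1']
  have hq : 1 ≤ Fintype.card F := Fintype.card_pos
  have hcard : Nat.card (Matrix.ProjectiveSpecialLinearGroup (Fin 2) F) =
      (Fintype.card F + 1) * Fintype.card F * (Fintype.card F - 1) := by
    rw [ClassicalGeometry.PSL2Basic.card_PSL2_even F (by rw [hF]; exact Nat.even_pow.2 ⟨even_two, by omega⟩)]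
    have : Fintype.card F ^ 2 - 1 = (Fintype.card F + 1) * (Fintype.card F - 1) := by
      have := Nat.sq_sub_sq (Fintype.card F) 1
      simpa using this
    rw [this]
    ring
  have hcop : ¬ 2 ∣ Fintype.card F - 1 := by
    rw [hF]
    have h5 : 2 ∣ 2 ^ n := dvd_pow_self 2 (by omega)
    have h6 : 0 < 2 ^ n := by positivity
    omega
  have hZT := (OddCyclic.Zass.isZT_psl2 (F := F) Nat.prime_two hF hcop hcard).of_mulEquiv e.symm
  have hnum : Nat.card (Sylow 2 K) = Nat.card (S : Subgroup K) + 1 := by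
    rw [(hZT ⟨n, hF⟩ hcop).num, h3, hF]
  set D := Subgroup.centralizer ((P : Subgroup G) : Set G) with hD
  have hcomm : ∀ a ∈ (P : Subgroup G), ∀ b ∈ (P : Subgroup G), a * b = b * a := by
    intro a ha b hb
    exact congrArg Subtype.val (hcommS ⟨a, hPK ha⟩ (Subgroup.mem_subgroupOf.2 ha) ⟨b, hPK hb⟩
      (Subgroup.mem_subgroupOf.2 hb))
  have hPD : (P : Subgroup G) ≤ D := by
    intro x hx
    rw [hD, Subgroup.mem_centralizer_iff]
    exact fun y hy => hcomm y hy x hx
  have hodd : ∀ y ∈ D, Odd (orderOf y) → y = 1 := by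
    intro y hy hyo
    have hφ : MulAut.conjNormal (H := K) y = 1 := by
      refine Walter.AutFix.eq_one_of_fix S hcommS hTI hnum _ ?_ ?_
      · exact Odd.of_dvd_nat hyo (orderOf_map_dvd _ _)
      · intro s hs
        apply Subtype.ext
        rw [MulAut.conjNormal_apply]
        have hsP : (s : G) ∈ (P : Subgroup G) := Subgroup.mem_subgroupOf.1 hs
        rw [← Subgroup.mem_centralizer_iff.1 hy s hsP, mul_inv_cancel_right]
    have h5 : y ∈ Subgroup.centralizer (K : Set G) := by
      rw [Subgroup.mem_centralizer_iff]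
      intro x hx
      have h6 := congrArg (fun φ : MulAut K => ((φ ⟨x, hx⟩ : K) : G)) hφ
      simp only [MulAut.conjNormal_apply, MulAut.one_apply] at h6
      exact (mul_inv_eq_iff_eq_mul.1 h6).symm
    rw [hKC] at h5
    exact Subgroup.mem_bot.1 h5
  have hD2 : IsPGroup 2 D := by
    refine IsPGroup.of_card (n := (Nat.card D).primeFactorsList.length) ?_
    refine Nat.eq_prime_pow_of_unique_prime_dvd Nat.card_pos.ne' ?_
    intro d hd hdvd
    by_contra hne
    have : Fact d.Prime := ⟨hd⟩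
    obtain ⟨y, hy⟩ := exists_prime_orderOf_dvd_card' d hdvd
    have h5 : (y : G) = 1 := hodd y y.2 (by
      rw [Subgroup.orderOf_coe, hy]
      exact hd.odd_of_ne_two hne)
    have h6 : y = 1 := Subtype.ext h5
    rw [h6, orderOf_one] at hy
    exact hd.one_lt.ne hy
  have h5 : D = P := P.3 hD2 hPD
  rw [h5]
  exact hPK

/-- **The case `PSL(2, 2^n)`.** -/
theorem of_even_type (hM : IsPModular 2 M) {u : G} {k : ℂ} (h : HypK M u k) (hk : k ≠ 0)
    (hu2 : 2 ∣ orderOf u) {K : Subgroup G} (hK : K.Normal) (hKs : IsSimpleGroup K)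
    (hKC : Subgroup.centralizer (K : Set G) = ⊥) (P : Sylow 2 G) (hPK : (P : Subgroup G) ≤ K)
    (hE : Walter.Types.IsEvenType K) : Walter.Types.IsEvenType G ∧ u ^ 2 = 1 := by
  obtain ⟨F, i1, i2, n, hn, hF, ⟨e⟩⟩ := hE
  have hC := centralizer_le_of_even hK hKs hKC P hPK hn hF e
  have htop := eq_top_of_centralizer_le hM h hk P K hK hPK hC
  have e' : G ≃* Matrix.ProjectiveSpecialLinearGroup (Fin 2) F :=
    (Subgroup.topEquiv.symm.trans (MulEquiv.subgroupCongr htop.symm)).trans e
  refine ⟨⟨F, i1, i2, n, hn, hF, ⟨e'⟩⟩, ?_⟩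
  -- `u` commutes with an involution
  obtain ⟨m, hm⟩ := hu2
  have hm0 : 0 < m := by
    have := orderOf_pos u
    rw [hm] at this
    omega
  set t := u ^ m with ht
  have ht1 : t ≠ 1 := by
    intro h1
    have h2 := orderOf_dvd_of_pow_eq_one h1
    have h3 := Nat.le_of_dvd hm0 h2
    omega
  have ht2 : t * t = 1 := by
    rw [ht, ← pow_add, ← two_mul, ← hm, pow_orderOf_eq_one]
  have htu : t * u = u * t := by
    rw [ht, ← pow_succ, ← pow_succ']
  have htp : IsPGroup 2 (Subgroup.zpowers t) := by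
    refine IsPGroup.of_card (n := 1) ?_
    rw [Nat.card_zpowers, pow_one]
    exact orderOf_eq_prime (by rw [pow_two]; exact ht2) ht1
  obtain ⟨S, hS⟩ := htp.exists_le_sylow
  obtain ⟨h1, h2, -⟩ := Walter.PSLFacts.even_facts (by omega) hF e' S
  have h3 : u ∈ Subgroup.centralizer ({t} : Set G) := Subgroup.mem_centralizer_singleton_iff.2 htu.symm
  rw [h2 t (hS (Subgroup.mem_zpowers t)) ht1] at h3
  rw [pow_two]
  exact h1 u h3

end Cfsg.Agent.H609.Hz
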