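import Cfsg.Agent.H609.HzFour
import Cfsg.Agent.Ree.ReducePSL
import Cfsg.Agent.Characters.SchurBound
import Cfsg.Agent.S0944
import Cfsg.Agent.S2300

/-!
# Herzog's theorem on the principal 2-block: the irreducible characters of `PSL(2, 2^n)`

`psl_apply`: `χ(1) - χ(t) = 2^n` for every non-principal irreducible character and every involution `t`.
-/

set_option autoImplicit false

open Cfsg Cfsg.Agent.Blocks.Basic
open scoped ComplexConjugate

namespace Cfsg.Agent.H609.Hz

/-- The sum of a character over a subgroup on which it is constant outside 1. -/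
theorem sum_subgroup {G : Type*} [Group G] [Finite G] (S : Subgroup G) (χ : IrrCharacter G) {m : ℤ}
    (hval : ∀ x ∈ S, x ≠ 1 → (χ : G → ℂ) x = m) :
    ∃ n : ℕ, (charDegree (χ : G → ℂ) : ℤ) + (Nat.card S - 1) * m = Nat.card S * n := by
  classical
  have := Fintype.ofFinite S
  have hc := Characters.Core.isCharacter_comp S.subtype (irr_isCharacter χ.2)
  obtain ⟨n, hn⟩ := Characters.Core.classInner_isNat hc (Characters.Core.isCharacter_one (G := S))
  refine ⟨n, ?_⟩
  rw [Characters.Core.classInner_def] at hn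
  have hpos : 1 ≤ Nat.card S := Nat.card_pos
  have h1 : ∑ g : S, ((χ : G → ℂ) ∘ S.subtype) g * conj ((1 : S → ℂ) g) =
      (charDegree (χ : G → ℂ) : ℂ) + ((Nat.card S : ℂ) - 1) * m := by
    rw [← Finset.add_sum_erase _ _ (Finset.mem_univ (1 : S))]
    congr 1
    · simp only [Function.comp_apply, map_one, Pi.one_apply, mul_one]
      exact irr_one_eq_charDegree χ.2
    · have h2 : ∀ g ∈ Finset.univ.erase (1 : S),
          ((χ : G → ℂ) ∘ S.subtype) g * conj ((1 : S → ℂ) g) = m := by
        intro g hg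
        simp only [Function.comp_apply, Pi.one_apply, map_one, mul_one]
        exact hval g g.2 fun h => Finset.ne_of_mem_erase hg (Subtype.ext h)
      rw [Finset.sum_congr rfl h2, Finset.sum_const, Finset.card_erase_of_mem (Finset.mem_univ _),
        Finset.card_univ, ← Nat.card_eq_fintype_card, nsmul_eq_mul, Nat.cast_sub hpos]
      push_cast
      rfl
  rw [h1] at hn
  have hne : (Nat.card S : ℂ) ≠ 0 := by exact_mod_cast (Nat.card_pos (α := S)).ne'
  have h3 : (charDegree (χ : G → ℂ) : ℂ) + ((Nat.card S : ℂ) - 1) * m = Nat.card S * n := by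
    field_simp at hn
    linear_combination hn
  exact_mod_cast h3

variable {L : Type*} [Group L] [Finite L] {F : Type*} [Field F] [Fintype F]

/-- **The characters of `PSL(2, 2^n)`.** -/
theorem psl_apply {n : ℕ} (hn : 2 ≤ n) (hF : Fintype.card F = 2 ^ n)
    (e : L ≃* Matrix.ProjectiveSpecialLinearGroup (Fin 2) F) {t : L} (ht1 : t ≠ 1) (ht2 : t * t = 1)
    (χ : IrrCharacter L) (hχ : χ ≠ triv L) : (χ : L → ℂ) 1 - (χ : L → ℂ) t = ((2 ^ n : ℕ) : ℂ) := by
  classical
  have hF2 : CharP F 2 := by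
    obtain ⟨p, hp⟩ := CharP.exists F
    have hpp : p.Prime := (CharP.char_is_prime_or_zero F p).resolve_right
      (CharP.char_ne_zero_of_finite F p)
    have h1 : p ∣ Fintype.card F := (CharP.cast_eq_zero_iff F p _).1 (FiniteField.cast_card_eq_zero F)
    rw [hF] at h1
    have h2 := (Nat.prime_dvd_prime_iff_eq hpp Nat.prime_two).1 (hpp.dvd_of_dvd_pow h1)
    rw [← h2]; exact hp
  set q := 2 ^ n with hq
  have hq4 : 4 ≤ q := by
    have : 2 ^ 2 ≤ 2 ^ n := Nat.pow_le_pow_right (by norm_num) hn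
    simpa using this
  -- degrees
  set f : Matrix.SpecialLinearGroup (Fin 2) F →* L := e.symm.toMonoidHom.comp
    (QuotientGroup.mk' (Subgroup.center (Matrix.SpecialLinearGroup (Fin 2) F))) with hf
  have hfs : Function.Surjective f := e.symm.surjective.comp (QuotientGroup.mk'_surjective _)
  set θ : IrrCharacter (Matrix.SpecialLinearGroup (Fin 2) F) :=
    ⟨(χ : L → ℂ) ∘ f, Characters.Core.isIrr_comp f hfs χ.2⟩ with hθ
  have hθ1 : (θ : Matrix.SpecialLinearGroup (Fin 2) F → ℂ) 1 = (χ : L → ℂ) 1 := by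
    change (χ : L → ℂ) (f 1) = _
    rw [map_one]
  obtain ⟨hdeg, hcount⟩ := S2300.result (F := F)
  have hd := hdeg θ θ.2
  have hne1 : (χ : L → ℂ) 1 ≠ 1 := by
    intro h1
    apply hχ
    have h2 := (hcount (by rw [hF]; exact hq4)).1
    rw [Nat.card_eq_one_iff_unique] at h2
    have := h2.1
    have h3 : (⟨θ, hθ1.trans h1⟩ : {χ : IrrCharacter (Matrix.SpecialLinearGroup (Fin 2) F) //
        (χ : Matrix.SpecialLinearGroup (Fin 2) F → ℂ) 1 = 1}) = ⟨triv _, rfl⟩ := Subsingleton.elim _ _
    have h4 := congrArg Subtype.val h3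
    apply Subtype.ext
    funext x
    obtain ⟨y, rfl⟩ := hfs x
    exact congrFun (congrArg Subtype.val h4) y
  rw [hθ1, irr_one_eq_charDegree χ.2, hF] at hd
  rw [irr_one_eq_charDegree χ.2] at hne1
  have hd' : (charDegree (χ : L → ℂ) : ℤ) = q - 1 ∨ (charDegree (χ : L → ℂ) : ℤ) = q ∨
      (charDegree (χ : L → ℂ) : ℤ) = q + 1 := by
    rcases hd with h | h | h | h
    · exact absurd h hne1
    · left; exact_mod_cast h
    · right; left; exact_mod_cast h
    · right; right; exact_mod_cast h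
  -- values
  have ht : orderOf t = 2 := orderOf_eq_prime (by rw [pow_two]; exact ht2) ht1
  obtain ⟨m, hm, -⟩ := S0944.result χ t ht
  obtain ⟨-, -, -, hone⟩ := Ree.ReducePSL.even_case (F := F) (by
    rw [hF, hq]; exact Nat.even_pow.2 ⟨even_two, by omega⟩)
  have hone' : ∀ x : L, orderOf x = 2 → IsConj x t := by
    intro x hx
    have h1 := hone (e x) (e t) ((orderOf_injective e.toMonoidHom e.injective x).trans hx)
      ((orderOf_injective e.toMonoidHom e.injective t).trans ht)
    obtain ⟨c, hc⟩ := isConj_iff.1 h1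
    rw [isConj_iff]
    refine ⟨e.symm c, e.injective ?_⟩
    rw [map_mul, map_mul, map_inv, e.apply_symm_apply, hc]
  have htp : IsPGroup 2 (Subgroup.zpowers t) := by
    refine IsPGroup.of_card (n := 1) ?_
    rw [Nat.card_zpowers, ht, pow_one]
  obtain ⟨S, hS⟩ := htp.exists_le_sylow
  obtain ⟨s1, s2, s3⟩ := Walter.PSLFacts.even_facts (by omega) hF e S
  have htS : t ∈ (S : Subgroup L) := hS (Subgroup.mem_zpowers t)
  obtain ⟨r, hr⟩ := sum_subgroup (S : Subgroup L) χ (m := m) (by
    intro x hx hx1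
    rw [← hm]
    exact irr_isConj χ.2 (hone' x (orderOf_eq_prime (by rw [pow_two]; exact s1 x hx) hx1)))
  rw [s3, ← hq] at hr
  -- bound
  have hfin : Finite (IrrCharacter L) := Characters.Core.finite_irr
  have := Fintype.ofFinite (IrrCharacter L)
  have := Fintype.ofFinite L
  have hbound : m * m + 1 ≤ (q : ℤ) := by
    have h1 := S0145.sum_irr_mul_conj t t
    rw [if_pos (IsConj.refl _), s2 t htS ht1, s3, ← hq] at h1
    have h2 : ∀ ψ : IrrCharacter L, (ψ : L → ℂ) t * conj ((ψ : L → ℂ) t) =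
        ((Complex.normSq ((ψ : L → ℂ) t) : ℝ) : ℂ) := fun ψ => Complex.mul_conj _
    rw [Finset.sum_congr rfl fun ψ _ => h2 ψ] at h1
    have h3 : ∑ ψ : IrrCharacter L, Complex.normSq ((ψ : L → ℂ) t) = (q : ℝ) := by exact_mod_cast h1
    rw [← Finset.add_sum_erase _ _ (Finset.mem_univ (triv L)), triv_apply, map_one] at h3
    have h4 : Complex.normSq ((χ : L → ℂ) t) ≤
        ∑ ψ ∈ Finset.univ.erase (triv L), Complex.normSq ((ψ : L → ℂ) t) :=
      Finset.single_le_sum (f := fun ψ : IrrCharacter L => Complex.normSq ((ψ : L → ℂ) t))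
        (fun _ _ => Complex.normSq_nonneg _) (Finset.mem_erase.2 ⟨hχ, Finset.mem_univ _⟩)
    rw [hm, Complex.normSq_intCast] at h4
    have h5 : (m : ℝ) * m + 1 ≤ q := by linarith
    exact_mod_cast h5
  have hq4' : (4 : ℤ) ≤ q := by exact_mod_cast hq4
  have key : (charDegree (χ : L → ℂ) : ℤ) - m = q := by
    -- `m = d + q (m - r)`
    have h1 : m = (charDegree (χ : L → ℂ) : ℤ) + q * (m - r) := by linear_combination -hr
    obtain ⟨ε, hε, hdε⟩ : ∃ ε : ℤ, (ε = -1 ∨ ε = 0 ∨ ε = 1) ∧ (charDegree (χ : L → ℂ) : ℤ) = q + ε := by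
      rcases hd' with h | h | h
      · exact ⟨-1, by simp, by linarith⟩
      · exact ⟨0, by simp, by linarith⟩
      · exact ⟨1, by simp, by linarith⟩
    have hε1 : -1 ≤ ε ∧ ε ≤ 1 := by rcases hε with h | h | h <;> rw [h] <;> norm_num
    have h2 : m = ε + q * (1 + m - r) := by rw [hdε] at h1; linarith
    set w := 1 + m - (r : ℤ) with hw
    rcases lt_trichotomy w 0 with h3 | h3 | h3
    · exfalso
      have h4 : q * w ≤ -(q : ℤ) := by nlinarith
      have h5 : m ≤ 1 - q := by linarith
      nlinarith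
    · rw [h3, mul_zero, add_zero] at h2
      rw [hdε, h2]; ring
    · exfalso
      have h4 : (q : ℤ) ≤ q * w := by nlinarith
      have h5 : (q : ℤ) - 1 ≤ m := by linarith
      nlinarith
  rw [hm, irr_one_eq_charDegree χ.2]
  exact_mod_cast key

/-- **Groups of order 2.** -/
theorem two_apply (h2 : Nat.card L = 2) {t : L} (ht1 : t ≠ 1) (χ : IrrCharacter L) (hχ : χ ≠ triv L) :
    (χ : L → ℂ) 1 - (χ : L → ℂ) t = 2 := by
  classical
  have := Fintype.ofFinite L
  have huniv : (Finset.univ : Finset L) = {1, t} := by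
    symm
    apply Finset.eq_univ_of_card
    rw [Finset.card_pair ht1.symm, ← h2, Nat.card_eq_fintype_card]
  have h1 := Characters.Core.classInner_irr_ne χ.2 (triv L).2 (fun h => hχ (Subtype.ext h))
  have h3 := Characters.Core.classInner_irr_self χ.2
  rw [Characters.Core.classInner_def, huniv, Finset.sum_pair ht1.symm, h2] at h1 h3
  rw [triv_apply, triv_apply, map_one, mul_one, mul_one] at h1
  have h4 : (χ : L → ℂ) t = -(χ : L → ℂ) 1 := by
    push_cast at h1
    linear_combination 2 * h1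
  rw [h4, irr_one_eq_charDegree χ.2, map_neg, map_natCast] at h3
  have h5 : (charDegree (χ : L → ℂ) : ℂ) * charDegree (χ : L → ℂ) = 1 := by
    push_cast at h3
    linear_combination h3
  have h6 : charDegree (χ : L → ℂ) * charDegree (χ : L → ℂ) = 1 := by exact_mod_cast h5
  have h7 : charDegree (χ : L → ℂ) = 1 := Nat.eq_one_of_mul_eq_one_right h6
  rw [h4, irr_one_eq_charDegree χ.2, h7]
  norm_num

end Cfsg.Agent.H609.Hz
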