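import Cfsg.Agent.H609.HzParity
import Cfsg.Agent.Blocks.BlockKer
import Cfsg.Agent.Blocks.Deflate
import Cfsg.Agent.Blocks.Knorr
import Cfsg.Agent.Blocks.PElements
import Cfsg.Agent.S0145
import Cfsg.Agent.S0161

/-!
# Herzog's theorem on the principal 2-block: quotients of odd order

* `card_eq_one_of_odd`: a group `H` of odd order with `λ(1) - λ(h) = k ≠ 0` for all non-principal irreducible `λ` is
  trivial;
* `mem_principalBlock_of_ker`: if `|G : N|` is odd and `C_G(P) ≤ N`, `P` a Sylow 2-subgroup, then the irreducible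
  characters of `G / N` are in the principal 2-block;
* `exists_apply_ne`: under the hypothesis of the theorem no Sylow 2-subgroup is in the kernel of a non-principal
  member of the principal 2-block.
-/

set_option autoImplicit false

open Cfsg Cfsg.Agent.Blocks Cfsg.Agent.Blocks.Basic Cfsg.Agent.Blocks.Local
open scoped ComplexConjugate

namespace Cfsg.Agent.H609.Hz

section Odd

variable {H : Type*} [Group H] [Finite H]

theorem isIntegral_apply (χ : IrrCharacter H) (g : H) : IsIntegral ℤ ((χ : H → ℂ) g) :=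
  PElements.isIntegral_of_isCharacter (irr_isCharacter χ.2) g

/-- The complex conjugate character. -/
noncomputable def conjIrr (χ : IrrCharacter H) : IrrCharacter H :=
  ⟨fun g => conj ((χ : H → ℂ) g), Characters.Core.isIrr_conj χ.2⟩

theorem conjIrr_apply (χ : IrrCharacter H) (g : H) : (conjIrr χ : H → ℂ) g = conj ((χ : H → ℂ) g) := rfl

theorem conjIrr_conjIrr (χ : IrrCharacter H) : conjIrr (conjIrr χ) = χ := by
  apply Subtype.ext
  funext g
  change conj (conj ((χ : H → ℂ) g)) = _
  rw [Complex.conj_conj]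

theorem conjIrr_ne {χ : IrrCharacter H} (hodd : Odd (Nat.card H)) (hχ : χ ≠ triv H) : conjIrr χ ≠ χ := by
  intro h
  apply hχ
  apply Subtype.ext
  refine S0161.result hodd χ fun g => ?_
  have h1 : conj ((χ : H → ℂ) g) = (χ : H → ℂ) g := congrFun (congrArg Subtype.val h) g
  exact Complex.conj_eq_iff_im.1 h1

theorem charDegree_conjIrr (χ : IrrCharacter H) :
    charDegree (conjIrr χ : H → ℂ) = charDegree (χ : H → ℂ) := by
  apply charDegree_of_eq
  rw [conjIrr_apply, irr_one_eq_charDegree χ.2, map_natCast]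

/-- **Groups of odd order.** -/
theorem card_eq_one_of_odd (hodd : Odd (Nat.card H)) {h : H} {k : ℂ} (hk : k ≠ 0)
    (hyp : ∀ χ : IrrCharacter H, χ ≠ triv H → (χ : H → ℂ) 1 - (χ : H → ℂ) h = k) :
    Nat.card H = 1 := by
  classical
  have := Fintype.ofFinite H
  have : Finite (IrrCharacter H) := Characters.Core.finite_irr
  have := Fintype.ofFinite (IrrCharacter H)
  by_contra hne
  have hnt : Nontrivial H := by
    rw [← Finite.one_lt_card_iff_nontrivial]
    have := Nat.card_pos (α := H)
    omega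
  -- a non-principal character
  obtain ⟨x, hx⟩ := exists_ne (1 : H)
  obtain ⟨χ₀, hχ₀⟩ : ∃ χ : IrrCharacter H, χ ≠ triv H := by
    by_contra hcon
    push Not at hcon
    have h1 := S0145.sum_irr_mul_conj x (1 : H)
    rw [if_neg (fun hc => hx (isConj_one_left.1 hc))] at h1
    have h3 : ∀ χ ∈ (Finset.univ : Finset (IrrCharacter H)),
        (χ : H → ℂ) x * conj ((χ : H → ℂ) 1) = 1 := by
      intro χ _
      rw [hcon χ, triv_apply, triv_apply, map_one, mul_one]
    have h2 : 0 < Fintype.card (IrrCharacter H) := Fintype.card_pos_iff.2 ⟨triv H⟩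
    rw [Finset.sum_congr rfl h3, Finset.sum_const, Finset.card_univ, nsmul_eq_mul, mul_one] at h1
    exact h2.ne' (by exact_mod_cast h1)
  -- h is not 1
  have hh : h ≠ 1 := by
    rintro rfl
    apply hk
    rw [← hyp χ₀ hχ₀, sub_self]
  have e1 := S0145.sum_irr_mul_conj h (1 : H)
  rw [if_neg (fun hc => hh (isConj_one_left.1 hc))] at e1
  have e2 := S0145.sum_irr_mul_conj (1 : H) (1 : H)
  rw [if_pos (IsConj.refl _)] at e2
  have hcent : Nat.card (Subgroup.centralizer ({(1 : H)} : Set H)) = Nat.card H := by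
    have : Subgroup.centralizer ({(1 : H)} : Set H) = ⊤ := by
      rw [eq_top_iff]
      intro g _
      rw [Subgroup.mem_centralizer_singleton_iff, mul_one, one_mul]
    rw [this]
    exact Nat.card_congr Subgroup.topEquiv.toEquiv
  rw [hcent] at e2
  have e3 : ∑ χ : IrrCharacter H, ((χ : H → ℂ) 1 - (χ : H → ℂ) h) * conj ((χ : H → ℂ) 1) =
      (Nat.card H : ℂ) := by
    simp only [sub_mul, Finset.sum_sub_distrib]
    rw [e1, e2, sub_zero]
  set m : ℕ := ∑ χ ∈ Finset.univ.erase (triv H), charDegree (χ : H → ℂ) with hm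
  have e4 : k * m = (Nat.card H : ℂ) := by
    rw [← e3, ← Finset.add_sum_erase _ _ (Finset.mem_univ (triv H)), triv_apply, triv_apply, sub_self,
      zero_mul, zero_add, hm]
    push_cast
    rw [Finset.mul_sum]
    refine Finset.sum_congr rfl fun χ hχ => ?_
    rw [hyp χ (Finset.ne_of_mem_erase hχ), irr_one_eq_charDegree χ.2, map_natCast]
  -- m is even
  have hmeven : 2 ∣ m := by
    rw [← ZMod.natCast_eq_zero_iff, hm]
    push_cast
    refine Finset.sum_involution (fun χ _ => conjIrr χ) ?_ ?_ ?_ ?_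
    · intro χ _
      rw [charDegree_conjIrr]
      exact CharTwo.add_self_eq_zero _
    · intro χ hχ _
      exact conjIrr_ne hodd (Finset.ne_of_mem_erase hχ)
    · intro χ hχ
      refine Finset.mem_erase.2 ⟨?_, Finset.mem_univ _⟩
      intro h1
      apply Finset.ne_of_mem_erase hχ
      rw [← conjIrr_conjIrr χ, h1]
      apply Subtype.ext
      funext g
      change conj (1 : ℂ) = 1
      exact map_one _
    · intro χ _
      exact conjIrr_conjIrr χ
  -- k is an integer
  have hm0 : (m : ℂ) ≠ 0 := by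
    intro h0
    rw [h0, mul_zero] at e4
    exact Nat.card_pos.ne' (α := ℕ) (by exact_mod_cast e4.symm)
  have hkint : IsIntegral ℤ k := by
    rw [← hyp χ₀ hχ₀]
    exact (isIntegral_apply χ₀ 1).sub (isIntegral_apply χ₀ h)
  have hkrat : k = (((Nat.card H : ℚ) / m : ℚ) : ℂ) := by
    push_cast
    field_simp
    exact e4
  obtain ⟨z, hz⟩ : ∃ z : ℤ, k = z := by
    rw [hkrat] at hkint
    have h1 : IsIntegral ℤ ((Nat.card H : ℚ) / m : ℚ) := by
      have h2 : IsIntegral ℤ (algebraMap ℚ ℂ ((Nat.card H : ℚ) / m : ℚ)) := hkint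
      exact (isIntegral_algebraMap_iff (algebraMap ℚ ℂ).injective).1 h2
    obtain ⟨z, hz⟩ := IsIntegrallyClosed.isIntegral_iff.1 h1
    refine ⟨z, ?_⟩
    rw [hkrat, ← hz]
    simp
  rw [hz] at e4
  have e5 : z * (m : ℤ) = (Nat.card H : ℤ) := by exact_mod_cast e4
  obtain ⟨c, hc⟩ := hmeven
  have e6 : (2 : ℤ) ∣ (Nat.card H : ℤ) := ⟨z * c, by rw [← e5, hc]; push_cast; ring⟩
  have e7 : 2 ∣ Nat.card H := by exact_mod_cast e6
  exact (Nat.not_even_iff_odd.2 hodd) (even_iff_two_dvd.2 e7)

end Odd

section Ker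

variable {G : Type*} [Group G] [Finite G] {M : Ideal AlgInt}

/-- The degree of an irreducible character with `N` in the kernel divides `|G / N|`. -/
theorem charDegree_dvd_index (N : Subgroup G) [N.Normal] (χ : IrrCharacter G)
    (hN : ∀ n ∈ N, (χ : G → ℂ) n = (χ : G → ℂ) 1) : charDegree (χ : G → ℂ) ∣ N.index := by
  have := Fintype.ofFinite N
  obtain ⟨χ', hχ'⟩ := Deflate.exists_deflation N χ χ.2 (by
    rw [Finset.sum_congr rfl (fun (n : N) _ => hN n n.2), Finset.sum_const, Finset.card_univ, nsmul_eq_mul]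
    refine mul_ne_zero ?_ (irr_one_ne_zero χ.2)
    exact_mod_cast Fintype.card_ne_zero)
  have h1 : charDegree (χ : G → ℂ) = charDegree (χ' : G ⧸ N → ℂ) := by
    apply charDegree_of_eq
    rw [hχ', Function.comp_apply, QuotientGroup.mk_one, irr_one_eq_charDegree χ'.2]
  rw [h1]
  exact Knorr.charDegree_dvd χ'.2

/-- The irreducible characters of `G / N` are in the principal 2-block if `|G : N|` is odd and
`C_G(P) ≤ N` for the Sylow 2-subgroup `P`. -/
theorem mem_principalBlock_of_ker (hM : IsPModular 2 M) (P : Sylow 2 G) (N : Subgroup G) [hN : N.Normal]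
    (hidx : Odd N.index) (hC : Subgroup.centralizer ((P : Subgroup G) : Set G) ≤ N) (χ : IrrCharacter G)
    (hker : ∀ n ∈ N, (χ : G → ℂ) n = (χ : G → ℂ) 1) : χ ∈ principalBlock M G := by
  have hMp := isPrime_of_isPModular hM
  have h1 := irr_one_ne_zero χ.2
  intro g
  have e1 : centralChar (fun _ : G => (1 : ℂ)) g =
      ((Subgroup.centralizer ({g} : Set G)).index : ℂ) := by
    rw [centralChar_def, mul_one, div_one]
  have e2 : centralChar (χ : G → ℂ) g = ((Subgroup.centralizer ({g} : Set G)).index : ℂ) *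
      ((χ : G → ℂ) g / (χ : G → ℂ) 1) := by
    rw [centralChar_def, mul_div_assoc]
  rw [e1, e2]
  by_cases hodd : 2 ∣ (Subgroup.centralizer ({g} : Set G)).index
  · have h2 : MemLocalIdeal M ((Subgroup.centralizer ({g} : Set G)).index : ℂ) :=
      (memLocalIdeal_natCast_iff hM _).2 hodd
    refine memLocalIdeal_sub h2 (memLocalIdeal_mul_right h2 ?_)
    have h3 : ¬ 2 ∣ charDegree (χ : G → ℂ) := by
      intro h
      exact (Nat.not_even_iff_odd.2 hidx) (even_iff_two_dvd.2 (h.trans (charDegree_dvd_index N χ hker)))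
    rw [irr_one_eq_charDegree χ.2, div_eq_mul_inv]
    exact memLocalRing_mul (memLocalRing_of_isIntegral (isIntegral_apply χ g))
      (memLocalRing_inv_natCast hM h3)
  · -- the class meets C(P)
    obtain ⟨Q, hQ⟩ : ∃ Q : Sylow 2 G, (Q : Subgroup G) ≤ Subgroup.centralizer ({g} : Set G) := by
      obtain ⟨Q₀⟩ : Nonempty (Sylow 2 (Subgroup.centralizer ({g} : Set G))) := inferInstance
      have hp : IsPGroup 2 ((Q₀ : Subgroup (Subgroup.centralizer ({g} : Set G))).map
          (Subgroup.centralizer ({g} : Set G)).subtype) := Q₀.2.map _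
      have hidx2 : ¬ 2 ∣ ((Q₀ : Subgroup (Subgroup.centralizer ({g} : Set G))).map
          (Subgroup.centralizer ({g} : Set G)).subtype).index := by
        rw [Subgroup.index_map_subtype]
        intro h
        rcases (Nat.Prime.dvd_mul Nat.prime_two).1 h with h | h
        · exact Q₀.not_dvd_index h
        · exact hodd h
      refine ⟨hp.toSylow hidx2, ?_⟩
      exact Subgroup.map_subtype_le _
    obtain ⟨x, hx⟩ := MulAction.exists_smul_eq G Q P
    have hg : g ∈ N := by
      have h2 : x * g * x⁻¹ ∈ Subgroup.centralizer ((P : Subgroup G) : Set G) := by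
        rw [Subgroup.mem_centralizer_iff]
        intro y hy
        rw [← hx] at hy
        obtain ⟨z, hz, rfl⟩ := hy
        have h3 := Subgroup.mem_centralizer_singleton_iff.1 (hQ hz)
        change x * z * x⁻¹ * (x * g * x⁻¹) = x * g * x⁻¹ * (x * z * x⁻¹)
        calc x * z * x⁻¹ * (x * g * x⁻¹) = x * (z * g) * x⁻¹ := by group
          _ = x * (g * z) * x⁻¹ := by rw [h3]
          _ = _ := by group
      have h4 := hN.conj_mem _ (hC h2) x⁻¹
      simpa [mul_assoc] using h4
    rw [hker g hg, div_self h1, mul_one, sub_self]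
    exact memLocalIdeal_zero

/-- **No Sylow 2-subgroup is in the kernel of a non-principal member of the principal 2-block.** -/
theorem exists_apply_ne (hM : IsPModular 2 M) {u : G} {k : ℂ} (h : HypK M u k) (hk : k ≠ 0)
    (P : Sylow 2 G) {χ : IrrCharacter G} (hχ : χ ∈ principalBlock M G) (hχ1 : χ ≠ triv G) :
    ∃ x ∈ (P : Subgroup G), (χ : G → ℂ) x ≠ (χ : G → ℂ) 1 := by
  classical
  by_contra hcon
  push Not at hcon
  have hMp := isPrime_of_isPModular hM
  obtain ⟨K, hK, hKmem⟩ := BlockKer.exists_kernel χ.2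
  have hPK : (P : Subgroup G) ≤ K := fun x hx => (hKmem x).2 (hcon x hx)
  have hidx : Odd K.index := by
    rw [← Nat.not_even_iff_odd, even_iff_two_dvd]
    intro h2
    exact P.not_dvd_index (h2.trans (Subgroup.index_dvd_of_le hPK))
  have hcardQ : Odd (Nat.card (G ⧸ K)) := hidx
  have hdeg : ¬ 2 ∣ charDegree (χ : G → ℂ) := by
    intro h2
    exact (Nat.not_even_iff_odd.2 hidx) (even_iff_two_dvd.2
      (h2.trans (charDegree_dvd_index K χ fun n hn => (hKmem n).1 hn)))
  -- the deflated character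
  have := Fintype.ofFinite K
  have := Fintype.ofFinite (G ⧸ K)
  obtain ⟨χ', hχ'⟩ := Deflate.exists_deflation K χ χ.2 (by
    rw [Finset.sum_congr rfl (fun (n : K) _ => (hKmem n).1 n.2), Finset.sum_const, Finset.card_univ,
      nsmul_eq_mul]
    refine mul_ne_zero ?_ (irr_one_ne_zero χ.2)
    exact_mod_cast Fintype.card_ne_zero)
  have hχ'1 : (χ' : G ⧸ K → ℂ) 1 = (χ : G → ℂ) 1 := by
    rw [hχ', Function.comp_apply, QuotientGroup.mk_one]
  -- values on the centralizer of P
  have hval : ∀ c ∈ Subgroup.centralizer ((P : Subgroup G) : Set G),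
      MemLocalIdeal M ((χ : G → ℂ) 1 - (χ : G → ℂ) c) := by
    intro c hc
    have h1 := hχ c
    rw [centralChar_def, centralChar_def, mul_one, div_one] at h1
    have hodd : ¬ 2 ∣ (Subgroup.centralizer ({c} : Set G)).index := by
      intro h2
      refine P.not_dvd_index (h2.trans (Subgroup.index_dvd_of_le ?_))
      intro x hx
      rw [Subgroup.mem_centralizer_singleton_iff]
      exact (Subgroup.mem_centralizer_iff.1 hc x hx)
    have hne : ((Subgroup.centralizer ({c} : Set G)).index : ℂ) ≠ 0 := by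
      intro h2
      apply hodd
      have : (Subgroup.centralizer ({c} : Set G)).index = 0 := by exact_mod_cast h2
      rw [this]
      exact dvd_zero _
    have h3 := memLocalIdeal_mul_left (memLocalRing_inv_natCast hM hodd) h1
    have h4 := memLocalIdeal_mul_left (memLocalRing_of_isIntegral (isIntegral_apply χ 1)) h3
    have h5 := irr_one_ne_zero χ.2
    convert h4 using 1
    field_simp
  -- the image of the centralizer
  set X : Subgroup (G ⧸ K) := (Subgroup.centralizer ((P : Subgroup G) : Set G)).map (QuotientGroup.mk' K)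
    with hX
  have hXn : X.Normal := by
    constructor
    intro n hn g
    obtain ⟨c, hc, rfl⟩ := hn
    obtain ⟨g, rfl⟩ := QuotientGroup.mk'_surjective K g
    have hfr := P.normalizer_sup_eq_top' (N := K) hPK
    have hg : g ∈ Subgroup.normalizer ((P : Subgroup G) : Set G) ⊔ K := by
      have : (⊤ : Subgroup G) = Subgroup.normalizer ((P : Subgroup G) : Set G) ⊔ K := hfr.symm
      rw [← this]
      exact Subgroup.mem_top g
    obtain ⟨a, ha, b, hb, rfl⟩ := (Subgroup.mem_sup_of_normal_right).1 hg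
    have hb1 : QuotientGroup.mk' K b = 1 := by
      rw [QuotientGroup.mk'_apply]
      exact (QuotientGroup.eq_one_iff b).2 hb
    rw [map_mul, hb1, mul_one, ← map_inv, ← map_mul, ← map_mul]
    refine ⟨a * c * a⁻¹, ?_, rfl⟩
    rw [SetLike.mem_coe, Subgroup.mem_centralizer_iff]
    intro y hy
    have h1 : a⁻¹ * y * a ∈ (P : Subgroup G) := by
      have := (Subgroup.mem_normalizer_iff.1 (inv_mem ha) y).1 hy
      simpa using this
    have h2 := Subgroup.mem_centralizer_iff.1 hc _ h1
    calc y * (a * c * a⁻¹) = a * (a⁻¹ * y * a * c) * a⁻¹ := by group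
      _ = a * (c * (a⁻¹ * y * a)) * a⁻¹ := by rw [h2]
      _ = _ := by group
  have hXodd : ¬ 2 ∣ Nat.card X := by
    intro h2
    exact (Nat.not_even_iff_odd.2 hcardQ) (even_iff_two_dvd.2 (h2.trans X.card_subgroup_dvd_card))
  have hsum : ∑ x ∈ Finset.univ.filter (fun x => x ∈ X), (χ' : G ⧸ K → ℂ) x ≠ 0 := by
    intro h0
    have h1 : MemLocalIdeal M (∑ x ∈ Finset.univ.filter (fun x => x ∈ X),
        ((χ : G → ℂ) 1 - (χ' : G ⧸ K → ℂ) x)) := by
      refine memLocalIdeal_sum fun x hx => ?_
      obtain ⟨c, hc, rfl⟩ := (Finset.mem_filter.1 hx).2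
      have h2 : (χ' : G ⧸ K → ℂ) (QuotientGroup.mk' K c) = (χ : G → ℂ) c := by
        rw [hχ']; rfl
      rw [h2]
      exact hval c hc
    rw [Finset.sum_sub_distrib, h0, sub_zero, Finset.sum_const, nsmul_eq_mul,
      ← Fintype.card_subtype, irr_one_eq_charDegree χ.2, ← Nat.cast_mul,
      memLocalIdeal_natCast_iff hM, Nat.Prime.dvd_mul Nat.prime_two] at h1
    rcases h1 with h1 | h1
    · apply hXodd
      rw [Nat.card_eq_fintype_card]
      exact h1
    · exact hdeg h1
  have hCK : Subgroup.centralizer ((P : Subgroup G) : Set G) ≤ K := by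
    intro c hc
    rw [hKmem, ← hχ'1]
    have h1 := BlockKer.apply_eq_of_sum_ne_zero χ'.2 X hXn (Finset.univ.filter (fun x => x ∈ X))
      (fun x => by simp) hsum (g := QuotientGroup.mk' K c) ⟨c, hc, rfl⟩
    rw [← h1, hχ']
    rfl
  -- all characters of the quotient are in the principal block
  have hall : ∀ lam : IrrCharacter (G ⧸ K), lam ≠ triv (G ⧸ K) →
      (lam : G ⧸ K → ℂ) 1 - (lam : G ⧸ K → ℂ) (QuotientGroup.mk' K u) = k := by
    intro lam hlam
    let lam' : IrrCharacter G := ⟨(lam : G ⧸ K → ℂ) ∘ (QuotientGroup.mk' K),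
      Characters.Core.isIrr_comp (QuotientGroup.mk' K) (QuotientGroup.mk'_surjective K) lam.2⟩
    have h1 : lam' ∈ principalBlock M G := by
      refine mem_principalBlock_of_ker hM P K hidx hCK lam' fun n hn => ?_
      change (lam : G ⧸ K → ℂ) (QuotientGroup.mk' K n) = (lam : G ⧸ K → ℂ) (QuotientGroup.mk' K 1)
      rw [map_one, QuotientGroup.mk'_apply, (QuotientGroup.eq_one_iff n).2 hn]
    have h2 : lam' ≠ triv G := by
      intro h3
      apply hlam
      apply Subtype.ext
      funext x
      obtain ⟨g, rfl⟩ := QuotientGroup.mk'_surjective K x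
      have : (lam' : G → ℂ) g = 1 := by rw [h3]; rfl
      exact this
    have h3 := h lam' h1 h2
    rw [← h3]
    change _ = (lam : G ⧸ K → ℂ) (QuotientGroup.mk' K 1) - (lam : G ⧸ K → ℂ) (QuotientGroup.mk' K u)
    rw [map_one]
  have hone := card_eq_one_of_odd hcardQ hk hall
  have hKtop : K = ⊤ := Subgroup.index_eq_one.1 hone
  -- then χ is constant
  apply hχ1
  have hconst : ∀ g, (χ : G → ℂ) g = (χ : G → ℂ) 1 := fun g => (hKmem g).1 (hKtop ▸ Subgroup.mem_top g)
  have := Fintype.ofFinite G
  by_contra hne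
  have h1 := Characters.Core.classInner_irr_ne χ.2 (triv G).2 (fun h' => hne (Subtype.ext h'))
  rw [classInner_def] at h1
  rw [Finset.sum_congr rfl (fun g _ => by rw [hconst g, triv_apply, map_one, mul_one]),
    Finset.sum_const, Finset.card_univ, nsmul_eq_mul, ← Nat.card_eq_fintype_card] at h1
  have h2 : (Nat.card G : ℂ) ≠ 0 := by exact_mod_cast Nat.card_pos.ne'
  rcases mul_eq_zero.1 h1 with h3 | h3
  · exact h2 (inv_eq_zero.1 h3)
  · rcases mul_eq_zero.1 h3 with h4 | h4
    · exact h2 h4
    · exact irr_one_ne_zero χ.2 h4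

end Ker

end Cfsg.Agent.H609.Hz
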