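import Cfsg.Agent.H609.HzData

/-!
# Herzog's theorem on the principal 2-block: sums over the elements of odd order

The functionals dual to the functions `ηᵢ = σᵢ Xᵢ`, `i = 1, 2, 3`, on the elements of odd order of the centralizer of
an involution.
-/

set_option autoImplicit false

open Cfsg Cfsg.Agent.Blocks Cfsg.Agent.Blocks.Basic Cfsg.Agent.Blocks.Local
open Cfsg.Agent.Characters.Core
open scoped ComplexConjugate

namespace Cfsg.Agent.H609.Hz

theorem gram_expand {ι κ : Type*} (s : Finset ι) (R : Finset κ) (u : ι → κ → ℂ) (A B : κ → ℂ) :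
    ∑ ζ ∈ s, (∑ y ∈ R, u ζ y * A y) * conj (∑ y ∈ R, u ζ y * B y) =
      ∑ y ∈ R, ∑ y' ∈ R, A y * conj (B y') * ∑ ζ ∈ s, u ζ y * conj (u ζ y') := by
  have h1 : ∀ ζ ∈ s, (∑ y ∈ R, u ζ y * A y) * conj (∑ y ∈ R, u ζ y * B y) =
      ∑ y ∈ R, ∑ y' ∈ R, A y * conj (B y') * (u ζ y * conj (u ζ y')) := by
    intro ζ _
    rw [map_sum, Finset.sum_mul_sum]
    refine Finset.sum_congr rfl fun y _ => Finset.sum_congr rfl fun y' _ => ?_
    rw [map_mul]
    ring
  rw [Finset.sum_congr rfl h1, Finset.sum_comm]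
  refine Finset.sum_congr rfl fun y _ => ?_
  rw [Finset.sum_comm]
  refine Finset.sum_congr rfl fun y' _ => ?_
  rw [Finset.mul_sum]

section H

variable {H : Type*} [Group H] [Fintype H] {M : Ideal AlgInt} {z : H} {X : Fin 4 → IrrCharacter H}
  {σ : Fin 4 → ℤ}

open Classical in
/-- the elements of odd order -/
noncomputable def oddSet (H : Type*) [Group H] [Fintype H] : Finset H :=
  Finset.univ.filter fun y => ¬ 2 ∣ orderOf y

theorem mem_oddSet {y : H} : y ∈ oddSet H ↔ ¬ 2 ∣ orderOf y := by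
  classical
  simp [oddSet]

/-- `ηᵢ - 1` -/
noncomputable def phi (X : Fin 4 → IrrCharacter H) (σ : Fin 4 → ℤ) (i : Fin 4) (h : H) : ℂ :=
  (σ i : ℂ) * (X i : H → ℂ) h - 1

omit [Fintype H] in
theorem phi_apply (i : Fin 4) (h : H) : phi X σ i h = (σ i : ℂ) * (X i : H → ℂ) h - 1 := rfl

theorem sum_split (hzc : z ∈ Subgroup.center H) (hz : orderOf z = 2) (F : H → ℂ)
    (hF : ∀ h, 2 ∣ orderOf h → 2 ∣ orderOf (z * h) → F h = 0) :
    ∑ h, F h = ∑ y ∈ oddSet H, (F y + F (z * y)) := by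
  classical
  have hz2 : z * z = 1 := by rw [← pow_two, ← hz]; exact pow_orderOf_eq_one z
  have hdisj : ∀ h : H, ¬ 2 ∣ orderOf h → 2 ∣ orderOf (z * h) := by
    intro h h1
    by_contra h2
    have hc : Commute z h := (Subgroup.mem_center_iff.1 hzc h).symm
    have h3 : z = z * h * h⁻¹ := by group
    have hc2 : Commute (z * h) h⁻¹ := by
      have : Commute (z * h) h := hc.mul_left (Commute.refl h)
      exact this.inv_right
    have h4 : orderOf z ∣ orderOf (z * h) * orderOf h⁻¹ := by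
      have := hc2.orderOf_mul_dvd_mul_orderOf
      rwa [← h3] at this
    rw [hz, orderOf_inv] at h4
    rcases (Nat.Prime.dvd_mul Nat.prime_two).1 h4 with h5 | h5
    · exact h2 h5
    · exact h1 h5
  rw [← Finset.sum_filter_add_sum_filter_not Finset.univ (fun h => ¬ 2 ∣ orderOf h) F]
  rw [Finset.sum_add_distrib]
  have hodd : ∑ y ∈ oddSet H, F y = ∑ h with ¬ 2 ∣ orderOf h, F h := by
    refine Finset.sum_congr ?_ fun _ _ => rfl
    ext h
    rw [mem_oddSet, Finset.mem_filter]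
    simp
  rw [hodd]
  congr 1
  · rw [← Finset.sum_filter_add_sum_filter_not (Finset.univ.filter fun h => ¬ ¬ 2 ∣ orderOf h)
      (fun h => ¬ 2 ∣ orderOf (z * h)) F]
    rw [Finset.sum_eq_zero (s := Finset.filter (fun h => ¬ ¬ 2 ∣ orderOf (z * h)) _), add_zero]
    · refine Finset.sum_bij' (fun h _ => z * h) (fun h _ => z * h) ?_ ?_ ?_ ?_ ?_
      · intro h hh
        rw [Finset.mem_filter, Finset.mem_filter] at hh
        exact mem_oddSet.2 hh.2
      · intro h hh
        have h1 := mem_oddSet.1 hh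
        rw [Finset.mem_filter, Finset.mem_filter]
        refine ⟨⟨Finset.mem_univ _, not_not.2 (hdisj h h1)⟩, ?_⟩
        rw [← mul_assoc, hz2, one_mul]
        exact h1
      · intro h _
        rw [← mul_assoc, hz2, one_mul]
      · intro h _
        rw [← mul_assoc, hz2, one_mul]
      · intro h _
        rw [← mul_assoc, hz2, one_mul]
    · intro h hh
      rw [Finset.mem_filter, Finset.mem_filter] at hh
      exact hF h (not_not.1 hh.1.2) (not_not.1 hh.2)

/-- Inner products with `ηᵢ - 1` as sums over the elements of odd order. -/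
theorem classInner_phi (D : CData M z X σ) (hzc : z ∈ Subgroup.center H) (hz : orderOf z = 2)
    (θ : H → ℂ) (i : Fin 4) :
    classInner θ (phi X σ i) =
      (Nat.card H : ℂ)⁻¹ * ∑ y ∈ oddSet H, (θ y + θ (z * y)) * conj (phi X σ i y) := by
  rw [Characters.Core.classInner_def, sum_split hzc hz]
  · congr 1
    refine Finset.sum_congr rfl fun y _ => ?_
    have : phi X σ i (z * y) = phi X σ i y := by rw [phi_apply, phi_apply, D.fix]
    rw [this]
    ring
  · intro h h1 h2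
    rw [phi_apply, D.sing h h1 h2, sub_self, map_zero, mul_zero]

theorem phi_eq (D : CData M z X σ) (i : Fin 4) :
    phi X σ i = (σ i : ℂ) • (X i : H → ℂ) - (X 0 : H → ℂ) := by
  funext h
  rw [phi_apply, Pi.sub_apply, Pi.smul_apply, smul_eq_mul, D.X0, triv_apply]

/-- the coefficients -/
def cf (σ : Fin 4 → ℤ) (a i : Fin 4) : ℤ := (if a = i then σ i else 0) - (if a = 0 then 1 else 0)

theorem classInner_X (D : CData M z X σ) (a i : Fin 4) :
    classInner (X a : H → ℂ) (phi X σ i) = (cf σ a i : ℂ) := by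
  have hXX : ∀ a b, classInner (X a : H → ℂ) (X b : H → ℂ) = if a = b then 1 else 0 := by
    intro a b
    rw [classInner_irr (X a).2 (X b).2]
    by_cases hab : a = b
    · rw [if_pos hab, if_pos (by rw [hab])]
    · rw [if_neg hab, if_neg]
      intro h
      exact hab (D.inj (Subtype.ext h))
  rw [phi_eq D, classInner_sub_right, classInner_smul_right, hXX, hXX, cf]
  push_cast
  rw [map_intCast]
  split_ifs <;> simp

/-- the functional -/
noncomputable def fn (X : Fin 4 → IrrCharacter H) (σ : Fin 4 → ℤ) (i : Fin 4) (θ : H → ℂ) : ℂ :=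
  2 * (Nat.card H : ℂ)⁻¹ * ∑ y ∈ oddSet H, θ y * conj (phi X σ i y)

theorem fn_X (D : CData M z X σ) (hzc : z ∈ Subgroup.center H) (hz : orderOf z = 2) (a i : Fin 4) :
    fn X σ i (X a : H → ℂ) = (cf σ a i : ℂ) := by
  rw [← classInner_X D a i, classInner_phi D hzc hz, fn, mul_comm (2 : ℂ), mul_assoc]
  congr 1
  rw [Finset.mul_sum]
  refine Finset.sum_congr rfl fun y _ => ?_
  rw [D.fix]
  ring

theorem fn_congr {θ θ' : H → ℂ} (h : ∀ y, ¬ 2 ∣ orderOf y → θ y = θ' y) (i : Fin 4) :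
    fn X σ i θ = fn X σ i θ' := by
  rw [fn, fn]
  congr 1
  exact Finset.sum_congr rfl fun y hy => by rw [h y (mem_oddSet.1 hy)]

theorem fn_sum {κ : Type*} (s : Finset κ) (b : κ → ℂ) (θ : κ → H → ℂ) (i : Fin 4) :
    fn X σ i (fun y => ∑ a ∈ s, b a * θ a y) = ∑ a ∈ s, b a * fn X σ i (θ a) := by
  simp only [fn, Finset.mul_sum, Finset.sum_mul]
  rw [Finset.sum_comm]
  refine Finset.sum_congr rfl fun a _ => Finset.sum_congr rfl fun y _ => by ring

theorem fn_gram {κ : Type*} (t : Finset κ) (w : κ → H → ℂ) (i j : Fin 4) :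
    ∑ ζ ∈ t, fn X σ i (w ζ) * conj (fn X σ j (w ζ)) =
      (2 * (Nat.card H : ℂ)⁻¹) * conj (2 * (Nat.card H : ℂ)⁻¹) *
        ∑ y ∈ oddSet H, ∑ y' ∈ oddSet H, conj (phi X σ i y) * conj (conj (phi X σ j y')) *
          ∑ ζ ∈ t, w ζ y * conj (w ζ y') := by
  rw [← gram_expand, Finset.mul_sum]
  refine Finset.sum_congr rfl fun ζ _ => ?_
  rw [fn, fn, map_mul]
  ring

/-- **Gram matrix.** -/
theorem gram (D : CData M z X σ) (hzc : z ∈ Subgroup.center H) (hz : orderOf z = 2) {ι : Type*}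
    (s : Finset ι) (u : ι → H → ℂ)
    (hu : ∀ y y' : H, ¬ 2 ∣ orderOf y → ¬ 2 ∣ orderOf y' →
      ∑ ζ ∈ s, u ζ y * conj (u ζ y') = 2 * ∑ a, (X a : H → ℂ) y * conj ((X a : H → ℂ) y'))
    (i j : Fin 4) :
    ∑ ζ ∈ s, fn X σ i (u ζ) * conj (fn X σ j (u ζ)) =
      2 * ∑ a, (cf σ a i : ℂ) * (cf σ a j : ℂ) := by
  rw [fn_gram]
  have h1 : ∀ y ∈ oddSet H, ∀ y' ∈ oddSet H,
      conj (phi X σ i y) * conj (conj (phi X σ j y')) * ∑ ζ ∈ s, u ζ y * conj (u ζ y') =
      2 * (conj (phi X σ i y) * conj (conj (phi X σ j y')) *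
        ∑ a, (X a : H → ℂ) y * conj ((X a : H → ℂ) y')) := by
    intro y hy y' hy'
    rw [hu y y' (mem_oddSet.1 hy) (mem_oddSet.1 hy')]
    ring
  rw [Finset.sum_congr rfl fun y hy => Finset.sum_congr rfl fun y' hy' => h1 y hy y' hy']
  simp only [← Finset.mul_sum]
  rw [mul_left_comm, ← fn_gram Finset.univ (fun a => (X a : H → ℂ))]
  congr 1
  refine Finset.sum_congr rfl fun a _ => ?_
  rw [fn_X D hzc hz, fn_X D hzc hz, map_intCast]

end H

end Cfsg.Agent.H609.Hz
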